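import Cfsg.Agent.Lib.Classical.Dickson.Main
import Cfsg.Agent.Lib.Classical.Dickson.Generation

/-!
# Subgroups of `PGL₂` of order prime to the characteristic
-/

set_option autoImplicit false
set_option linter.unusedSectionVars false
set_option linter.style.haveILetI false

open Matrix OnePoint MulAction
open scoped MatrixGroups

namespace CfsgLib.KnownA.MinIndexU3

open CfsgLib.Classical
open scoped CfsgLib.Classical.Dickson

variable {F : Type*} [Field F] [Fintype F] [DecidableEq F] (p : ℕ) [Fact p.Prime] [CharP F p]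

/-- Subgroups of order prime to `p` have a cyclic normal subgroup of index at most two, or order 12, 24 or 60. -/
theorem pgl_types (G : Subgroup (ProjGenLinGroup (Fin 2) F)) (hp : ¬ p ∣ Nat.card G) :
    (∃ M : Subgroup G, IsCyclic M ∧ M.Normal ∧ M.index ≤ 2) ∨
      Nat.card G = 12 ∨ Nat.card G = 24 ∨ Nat.card G = 60 := by
  have hpp : p.Prime := Fact.out
  have noUnip : ∀ g ∈ G, g ^ p = 1 → g = 1 := fun g hg h => by
    by_contra h1
    refine hp ?_
    have := orderOf_dvd_natCard (⟨g, hg⟩ : G)
    rwa [← Subgroup.orderOf_coe, orderOf_eq_prime h h1] at this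
  have full : ∀ (A : Subfield F) (h : ProjGenLinGroup (Fin 2) F),
      ProjGenLinGroup.map (n := Fin 2) A.subtype (SpecialLinearGroup.toPGL (Dickson.upT (1 : A))) ∈
        G.map (MulAut.conj h).toMonoidHom → False := by
    rintro A h ⟨g, hg, e⟩
    set x := ProjGenLinGroup.map (n := Fin 2) A.subtype (SpecialLinearGroup.toPGL (Dickson.upT (1 : A)))
    haveI : CharP A p := (RingHom.charP_iff A.subtype A.subtype.injective p).2 inferInstance
    haveI : Fintype A := Fintype.ofFinite _
    have hxp : x ^ p = 1 := by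
      rw [← map_pow, ← map_pow, Dickson.upT_pow_char p, map_one, map_one]
    have hgp : g ^ p = 1 := by
      apply (MulAut.conj h).injective
      rw [map_pow, map_one, show MulAut.conj h g = x from e, hxp]
    have hx1 : x = 1 := by rw [← e, noUnip g hg hgp, map_one]
    have hmk : ProjGenLinGroup.map (n := Fin 2) A.subtype (SpecialLinearGroup.toPGL (Dickson.upT (1 : A))) =
        SpecialLinearGroup.toPGL (Dickson.upT (1 : F)) := by
      show ProjGenLinGroup.map A.subtype (ProjGenLinGroup.mk (SpecialLinearGroup.toGL _)) = _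
      rw [ProjGenLinGroup.map_mk]
      apply congrArg ProjGenLinGroup.mk
      apply Units.ext
      ext i j
      fin_cases i <;> fin_cases j <;> simp [Dickson.upT, Matrix.SpecialLinearGroup.toGL, GeneralLinearGroup.map]
    exact Dickson.toPGL_ne_one_of (s := Dickson.upT (1 : F)) (Or.inr (by simp [Dickson.upT])) (hmk ▸ hx1)
  rcases Dickson.kind p G with ⟨x, hx⟩ | ⟨c, hc, -⟩ | ⟨c, hc, -, -, ⟨f⟩⟩ | ⟨⟨f⟩⟩ | ⟨⟨f⟩⟩ | ⟨⟨f⟩⟩ | ⟨A, h, hG⟩ |
    ⟨A, -, h, hG⟩
  · left
    let ι : G →* stabilizer (ProjGenLinGroup (Fin 2) F) x := Subgroup.inclusion fun g hg => hx g hg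
    have hinj : Function.Injective ((Dickson.multiAt x).comp ι) := by
      rw [injective_iff_map_eq_one]
      intro g hg
      exact Subtype.ext (noUnip g g.2 ((Dickson.multiAt_eq_one_iff p x (ι g)).1 hg))
    haveI : IsCyclic G := isCyclic_of_injective _ hinj
    exact ⟨⊤, (Subgroup.topEquiv (G := G)).symm.isCyclic.1 inferInstance, inferInstance, by
      rw [Subgroup.index_top]; norm_num⟩
  · left
    haveI : IsCyclic G := by rw [hc]; infer_instance
    exact ⟨⊤, (Subgroup.topEquiv (G := G)).symm.isCyclic.1 inferInstance, inferInstance, by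
      rw [Subgroup.index_top]; norm_num⟩
  · left
    set k := orderOf c
    have hk : 0 < k := orderOf_pos c
    have hcard : Nat.card G = 2 * k := by rw [Nat.card_congr f.toEquiv, DihedralGroup.nat_card]
    have hM : Nat.card (Subgroup.zpowers (⟨c, hc⟩ : G)) = k := by
      rw [Nat.card_zpowers, ← Subgroup.orderOf_coe]
    have hidx : (Subgroup.zpowers (⟨c, hc⟩ : G)).index = 2 := by
      have := (Subgroup.zpowers (⟨c, hc⟩ : G)).card_mul_index
      rw [hM, hcard, mul_comm 2] at this
      exact Nat.eq_of_mul_eq_mul_left hk this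
    exact ⟨Subgroup.zpowers ⟨c, hc⟩, inferInstance, Subgroup.normal_of_index_eq_two hidx, hidx.le⟩
  · refine Or.inr (Or.inl ?_)
    rw [Nat.card_congr f.toEquiv]
    have h2 := two_mul_card_alternatingGroup (α := Fin 4)
    rw [Fintype.card_perm, Fintype.card_fin, show Nat.factorial 4 = 24 from rfl] at h2
    rw [Nat.card_eq_fintype_card]
    omega
  · refine Or.inr (Or.inr (Or.inl ?_))
    rw [Nat.card_congr f.toEquiv, Nat.card_eq_fintype_card, Fintype.card_perm, Fintype.card_fin]
    rfl
  · refine Or.inr (Or.inr (Or.inr ?_))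
    rw [Nat.card_congr f.toEquiv]
    have h2 := two_mul_card_alternatingGroup (α := Fin 5)
    rw [Fintype.card_perm, Fintype.card_fin, show Nat.factorial 5 = 120 from rfl] at h2
    rw [Nat.card_eq_fintype_card]
    omega
  · exact (full A h (hG ▸ ⟨_, rfl⟩)).elim
  · exact (full A h (hG ▸ ⟨_, rfl⟩)).elim

end CfsgLib.KnownA.MinIndexU3
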