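import Cfsg.Agent.Lib.KnownA.MinIndexU3.Transvections

/-!
# Large subgroups containing transvections, characteristic two
-/

set_option autoImplicit false
set_option linter.unusedSectionVars false

open Module MulAction CfsgLib.Classical CfsgLib.Classical.SUUnipotent
open scoped Pointwise

namespace CfsgLib.KnownA.MinIndexU3

variable {F : Type*} [Field F] [Fintype F] {V : Type*} [AddCommGroup V] [Module F V] [FiniteDimensional F V]
  [Finite V] {σ : F →+* F} {B : V →ₛₗ[σ] V →ₗ[F] F} {q : ℕ} (C : U3 B q) (H : Subgroup (sIsom B))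
include C

/-- Triviality of the transvection groups is independent of the point. -/
theorem Z0_bot_all (hbig : (q ^ 3 + 1) * (q ^ 2 - 1) ≤ Nat.card H) {f : Fr B} (h : Z0 H f = ⊥) (f' : Fr B) :
    Z0 H f' = ⊥ := by
  obtain ⟨p, hc⟩ := CharP.exists F
  haveI : Fact p.Prime := ⟨CharP.char_is_prime F p⟩
  haveI := transitive C p H hbig
  obtain ⟨g, hg⟩ := exists_smul_eq H f'.pt f.pt
  obtain ⟨a, ha⟩ := (smul_pt_iff C g.1 f'.v_ne_zero f'.vv f.v_ne_zero f.vv).1 hg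
  have ha0 : a ≠ 0 := fun e => f'.v_ne_zero (g.1.1.1.injective (by rw [ha, e, zero_smul, map_zero]))
  rw [AddSubgroup.eq_bot_iff_forall]
  intro c hc'
  have h1 := HE.conj (H := Hi H) (W := g.1.1) ⟨g.1, g.2, rfl⟩ ((mem_Z0 H f').1 hc')
  rw [ha, map_zero, he_smul_iff C.herm, smul_zero] at h1
  have h2 : a * σ a * c = 0 := by
    have : a * σ a * c ∈ Z0 H f := h1
    rwa [h, AddSubgroup.mem_bot] at this
  exact (mul_eq_zero.1 h2).resolve_left (mul_ne_zero ha0 (sigma_ne_zero C ha0))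

variable [CharP F 2] (hbig : (q ^ 3 + 1) * (q ^ 2 - 1) ≤ Nat.card H)
include hbig

theorem sq_eq_one_char_two {x : F} (h : x * x = 1) : x = 1 := by
  have h2 : (2 : F) = 0 := CharTwo.two_eq_zero
  have : (x - 1) * (x - 1) = 0 := by linear_combination h + (1 - x) * h2
  exact sub_eq_zero.1 (mul_self_eq_zero.1 this)

/-- The involutions of a large subgroup are transvections. -/
theorem involution_form (hZ : ∀ f : Fr B, Z0 H f ≠ ⊥) {g : H} (hg2 : g * g = 1) :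
    ∃ f : Fr B, ∃ c : F, IsE g.1.1 f.v 0 c ∧ g • f.pt = f.pt := by
  haveI : Fact (Nat.Prime 2) := ⟨Nat.prime_two⟩
  obtain ⟨r, hr0, hrr⟩ : ∃ r, r ≠ 0 ∧ B r r = 0 := by
    obtain ⟨r, -, h1, h2'⟩ := C.herm.exists_isotropic (nondegOn_iff.2 fun x _ hx => C.sep x fun y => hx y trivial :
      NondegOn B (⊤ : Submodule F V)) (by rw [finrank_top, C.dim]; omega)
    exact ⟨r, h1, h2'⟩
  obtain ⟨f₀, -⟩ := exists_fr C hr0 hrr
  have hne : rad H f₀ ≠ ⊥ := fun e => hZ f₀ (by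
    have h1 := card_rad C H f₀
    rw [e, Subgroup.card_bot] at h1
    exact AddSubgroup.eq_bot_of_card_eq _ (Nat.dvd_one.1 ⟨_, h1.trans (mul_comm _ _)⟩))
  obtain ⟨P, hP⟩ := exists_sylow C 2 H f₀ hne
  have hpow : g ^ 2 ^ 1 = 1 := by rw [pow_one, pow_two]; exact hg2
  obtain ⟨Q, hQ⟩ := IsPGroup.exists_le_sylow (P := Subgroup.zpowers g) (p := 2)
    (IsPGroup.of_card_dvd_pow (n := 1) (by rw [Nat.card_zpowers]; exact orderOf_dvd_of_pow_eq_one hpow))
  obtain ⟨h, hh⟩ := exists_smul_eq H P Q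
  have hgQ : g ∈ (Q : Subgroup H) := hQ (Subgroup.mem_zpowers g)
  rw [← hh, Sylow.coe_subgroup_smul, hP] at hgQ
  obtain ⟨r', hr', hgr⟩ := hgQ
  obtain ⟨f, hf⟩ := exists_fr_pt C (h • f₀.pt)
  have hgr' : g = h * r' * h⁻¹ := hgr.symm
  have hgfix : g • f.pt = f.pt := by
    rw [hf, hgr', mul_smul, mul_smul, inv_smul_smul, show r' • f₀.pt = f₀.pt from rad_le_stab C H f₀ hr']
  obtain ⟨t, c, hE⟩ := rad_isE C H f ⟨g, mem_rad_of_pow C 2 H f hgfix hpow⟩
  refine ⟨f, c, ?_, hgfix⟩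
  have h2 := hE.mul hE f.vv (by simp [f.wv C]) (by simp [f.vw])
  have e1 : g.1.1 * g.1.1 = 1 := congrArg (fun k : H => k.1.1) hg2
  rw [show (⟨g, mem_rad_of_pow C 2 H f hgfix hpow⟩ : rad H f).1.1.1 = g.1.1 from rfl, e1, ← add_smul,
    CharTwo.add_self_eq_zero t, CharTwo.add_self_eq_zero c] at h2
  have h3 : 0 - B (t • f.w) (t • f.w) = 0 := by
    rw [(isE_params C f h2).2]
    exact f.ss
  simp [map_smulₛₗ, f.ww] at h3
  rwa [h3, zero_smul] at hE

/-- Involutions with distinct fixed points are conjugate. -/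
theorem conj_of_ne (hZ : ∀ f : Fr B, Z0 H f ≠ ⊥) {s t : H} (hs : s * s = 1) (ht : t * t = 1)
    (hs1 : s ≠ 1) (ht1 : t ≠ 1) {f f' : Fr B} (hsf : s • f.pt = f.pt) (htf : t • f'.pt = f'.pt)
    (hne : f.pt ≠ f'.pt) : ∃ h : H, h * s * h⁻¹ = t := by
  haveI : Fact (Nat.Prime 2) := ⟨Nat.prime_two⟩
  have huniq : ∀ {k : H}, k * k = 1 → k ≠ 1 → ∀ {e : Fr B}, k • e.pt = e.pt → ∀ {x : IsoPts B}, k • x = x → x = e.pt :=
    fun {k} hk hk1 {e} he {x} hx =>
      rad_fix C H e (mem_rad_of_pow C 2 H e he (n := 1) (by rw [pow_one, pow_two]; exact hk)) hk1 hx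
  have hsi : s⁻¹ = s := inv_eq_of_mul_eq_one_right hs
  have hti : t⁻¹ = t := inv_eq_of_mul_eq_one_right ht
  have hpinv : (s * t)⁻¹ = t * s := by rw [mul_inv_rev, hsi, hti]
  have hsp : ∀ n : ℕ, s * (s * t) ^ n = ((s * t) ^ n)⁻¹ * s := fun n => by
    induction n with
    | zero => simp
    | succ n ih =>
      rw [pow_succ, ← mul_assoc, ih, mul_assoc, ← mul_assoc s s t, hs, one_mul, ← pow_succ, pow_succ',
        mul_inv_rev, hpinv, mul_assoc, mul_assoc, hs, mul_one]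
  rcases Nat.even_or_odd (orderOf (s * t)) with ⟨m, hm⟩ | ⟨m, hm⟩
  · exfalso
    have hpos := orderOf_pos (s * t)
    set w := (s * t) ^ m
    have hw : w * w = 1 := by rw [← pow_add, ← hm, pow_orderOf_eq_one]
    have hw1 : w ≠ 1 := pow_ne_one_of_lt_orderOf (by omega) (by omega)
    have hwi : w⁻¹ = w := inv_eq_of_mul_eq_one_right hw
    have hsw : s * w = w * s := by rw [hsp m, hwi]
    have htw : t * w = w * t := by
      have e : t = s * (s * t) := by rw [← mul_assoc, hs, one_mul]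
      have e2 : (s * t) * w = w * (s * t) := (Commute.self_pow (s * t) m).eq
      rw [e, mul_assoc, e2, ← mul_assoc, hsw, mul_assoc]
    obtain ⟨fw, c, -, hwf⟩ := involution_form C H hbig hZ hw
    have h1 : s • fw.pt = fw.pt := huniq hw hw1 hwf (by rw [← mul_smul, ← hsw, mul_smul, hwf])
    have h2 : t • fw.pt = fw.pt := huniq hw hw1 hwf (by rw [← mul_smul, ← htw, mul_smul, hwf])
    exact hne ((huniq hs hs1 hsf h1).symm.trans (huniq ht ht1 htf h2))
  · refine ⟨(s * t) ^ m, ?_⟩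
    have e : (s * t) ^ (m + m) * (s * t) = 1 := by
      rw [← pow_succ, show m + m + 1 = orderOf (s * t) by omega, pow_orderOf_eq_one]
    rw [mul_assoc, ← inv_pow, inv_pow, show s * ((s * t) ^ m)⁻¹ = (s * t) ^ m * s by
      rw [mul_inv_eq_iff_eq_mul, mul_assoc, hsp m, mul_inv_cancel_left], ← mul_assoc, ← pow_add,
      eq_inv_of_mul_eq_one_left e, hpinv, mul_assoc, hs, mul_one]

/-- The multipliers are transitive on the transvection parameters. -/
theorem mults_transitive (hZ : ∀ f : Fr B, Z0 H f ≠ ⊥) (f : Fr B) {c c' : F} (hc : c ∈ Z0 H f)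
    (hc' : c' ∈ Z0 H f) (hc0 : c ≠ 0) (hc0' : c' ≠ 0) :
    ∃ α ∈ mults C H f, (α : F) * σ (α : F) * c = c' := by
  haveI : Fact (Nat.Prime 2) := ⟨Nat.prime_two⟩
  have mk : ∀ (e : Fr B) (d : F), d ∈ Z0 H e → d ≠ 0 →
      ∃ g : H, g * g = 1 ∧ g ≠ 1 ∧ IsE g.1.1 e.v 0 d ∧ g • e.pt = e.pt := by
    intro e d hd hd0
    obtain ⟨g, hg⟩ := he_iff.1 ((mem_Z0 H e).1 hd)
    have hg' : IsE g.1.1 e.v ((0 : F) • e.w) d := by rwa [zero_smul]
    refine ⟨g, ?_, fun e1 => hd0 ?_, hg, rad_le_stab C H e (isE_fix C e hg')⟩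
    · refine Subtype.ext (Subtype.ext ?_)
      have h2 := hg.mul hg e.vv (by simp) (by simp)
      simp only [add_zero, CharTwo.add_self_eq_zero d, map_zero, LinearMap.zero_apply, sub_zero] at h2
      exact h2.unique (fun y => by simp)
    · rw [(isE_params C e hg').2, e1]
      exact e.ss
  obtain ⟨g, hg2, hg1, hgE, hgf⟩ := mk f c hc hc0
  obtain ⟨g', hg2', hg1', hgE', hgf'⟩ := mk f c' hc' hc0'
  obtain ⟨fs, hfs⟩ := exists_fr C f.s_ne_zero f.ss
  obtain ⟨⟨d, hd⟩, hd0⟩ := @exists_ne _ ((AddSubgroup.nontrivial_iff_ne_bot _).2 (hZ fs)) (0 : Z0 H fs)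
  obtain ⟨k, hk2, hk1, -, hkf⟩ := mk fs d hd (fun e => hd0 (Subtype.ext e))
  have hne : f.pt ≠ fs.pt := by
    intro e
    have e' := congrArg Subtype.val e
    obtain ⟨a, ha⟩ := (Projectivization.mk_eq_mk_iff' F _ _ f.v_ne_zero fs.v_ne_zero).1 e'
    have : B f.v f.v = a := by
      conv_lhs => arg 2; rw [← ha, hfs]
      rw [map_smul, f.vs, smul_eq_mul, mul_one]
    rw [f.vv] at this
    exact f.v_ne_zero (by rw [← ha, ← this, zero_smul])
  obtain ⟨h1, hh1⟩ := conj_of_ne C H hbig hZ hg2 hk2 hg1 hk1 hgf hkf hne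
  obtain ⟨h2, hh2⟩ := conj_of_ne C H hbig hZ hk2 hg2' hk1 hg1' hkf hgf' hne.symm
  set h := h2 * h1
  have hh : h * g * h⁻¹ = g' := by
    rw [← hh2, ← hh1]
    simp only [h]
    group
  have hfix : h • f.pt = f.pt := by
    refine rad_fix C H f (mem_rad_of_pow C 2 H f hgf' (n := 1) (by rw [pow_one, pow_two]; exact hg2')) hg1' ?_
    rw [← hh, mul_smul, mul_smul, inv_smul_smul, hgf]
  refine ⟨chi C H f ⟨h, hfix⟩, ⟨_, rfl⟩, ?_⟩
  set α := ((chi C H f ⟨h, hfix⟩ : Fˣ) : F)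
  have hv : h.1.1.1 f.v = α • f.v := chi_spec C H f ⟨h, hfix⟩
  have hE := hgE.conj h.1.1
  rw [hv, map_zero, show h.1.1 * g.1.1 * h.1.1⁻¹ = g'.1.1 by rw [← hh]; rfl] at hE
  have e1 := hE f.s
  rw [isE_apply_s C f (t := 0) (c := c') (by rwa [zero_smul])] at e1
  have e2 := congrArg (B f.s) e1
  simp [map_add, map_smul, map_smulₛₗ, f.ss, f.sv C, f.sw, f.vs] at e2
  linear_combination -e2

end CfsgLib.KnownA.MinIndexU3
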