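import Cfsg.Agent.Lib.KnownA.MinIndexU3.Even

/-!
# The order of a large subgroup with transvections, characteristic two
-/

set_option autoImplicit false
set_option linter.unusedSectionVars false
set_option linter.style.haveILetI false

open Module MulAction CfsgLib.Classical CfsgLib.Classical.SUUnipotent

namespace CfsgLib.KnownA.MinIndexU3

variable {F : Type*} [Field F] [Fintype F] {V : Type*} [AddCommGroup V] [Module F V] [FiniteDimensional F V]
  [Finite V] {σ : F →+* F} {B : V →ₛₗ[σ] V →ₗ[F] F} {q : ℕ} (C : U3 B q) (H : Subgroup (sIsom B))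
  [CharP F 2]
include C

/-- An isolated numerical bound. -/
theorem even_arith {K w a m : ℕ} (hK : 2 ≤ K) (hm : 2 ≤ m) (hw : w ≤ K * K) (hq : q = K ^ m)
    (hbound : q ^ 2 - 1 ≤ (K - 1) * a * (w * K)) :
    ((m = 2 → a ≤ 1) → (3 ≤ m → a ≤ 3) → False) ∧
      (Odd m → a ≤ 3 * (K + 1) → q = 8 ∧ K = 2 ∧ 63 ≤ w * K * a) := by
  have hK1 : K - 1 + 1 = K := by omega
  have hqq : (K ^ m) ^ 2 = K ^ (2 * m) := by rw [← pow_mul, mul_comm]
  have hb : (K - 1) * a * (w * K) ≤ (K - 1) * a * (K * K * K) :=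
    Nat.mul_le_mul_left _ (Nat.mul_le_mul_right _ hw)
  rw [hq, hqq] at hbound
  have h4 : 2 ^ 4 ≤ K ^ 4 := Nat.pow_le_pow_left hK 4
  refine ⟨fun h2 h3 => ?_, fun hodd ha => ?_⟩
  · rcases eq_or_lt_of_le hm with rfl | h
    · have ha := h2 rfl
      rw [show 2 * 2 = 4 from rfl] at hbound
      have : (K - 1) * a * (K * K * K) + 2 ≤ K ^ 4 := by
        have h1 : (K - 1) * a * (K * K * K) ≤ (K - 1) * (K * K * K) := by
          have := Nat.mul_le_mul_right (K * K * K) (Nat.mul_le_mul_left (K - 1) ha)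
          simpa using this
        have e : (K - 1) * (K * K * K) + K * K * K = K ^ 4 := by
          calc _ = (K - 1 + 1) * (K * K * K) := by ring
            _ = K ^ 4 := by rw [hK1]; ring
        have : 2 * 2 * 2 ≤ K * K * K := Nat.mul_le_mul (Nat.mul_le_mul hK hK) hK
        omega
      omega
    · have ha := h3 h
      have h6 : K ^ 6 ≤ K ^ (2 * m) := Nat.pow_le_pow_right (by omega) (by omega)
      have : (K - 1) * a * (K * K * K) + 2 ≤ K ^ 6 := by
        have h1 : (K - 1) * a * (K * K * K) ≤ (K - 1) * 3 * (K * K * K) :=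
          Nat.mul_le_mul_right _ (Nat.mul_le_mul_left _ ha)
        have h8 : 2 * 2 * 2 ≤ K * K * K := Nat.mul_le_mul (Nat.mul_le_mul hK hK) hK
        have hlt : (K - 1) * 3 + 1 ≤ K * K * K := by nlinarith
        have := Nat.mul_le_mul_right (K * K * K) hlt
        have e : K ^ 6 = K * K * K * (K * K * K) := by ring
        rw [add_mul, one_mul] at this
        omega
      omega
  · obtain ⟨j, rfl⟩ := hodd
    have hj : 1 ≤ j := by omega
    have h1 : (K - 1) * a * (K * K * K) + (K * K * K) * 3 ≤ 3 * K ^ 5 := by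
      calc (K - 1) * a * (K * K * K) + (K * K * K) * 3
          ≤ (K - 1) * (3 * (K + 1)) * (K * K * K) + (K * K * K) * 3 :=
            Nat.add_le_add_right (Nat.mul_le_mul_right _ (Nat.mul_le_mul_left _ ha)) _
        _ = (K - 1 + 1) * 3 * (K * K * K) + 3 * (K - 1) * K ^ 4 := by ring
        _ = 3 * K ^ 5 := by
          rw [hK1]
          calc K * 3 * (K * K * K) + 3 * (K - 1) * K ^ 4 = 3 * (K - 1 + 1) * K ^ 4 := by ring
            _ = 3 * K ^ 5 := by rw [hK1]; ring
    have hKK : 8 ≤ K * K * K := Nat.mul_le_mul (Nat.mul_le_mul hK hK) hK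
    by_cases hsmall : K = 2 ∧ j = 1
    · obtain ⟨rfl, rfl⟩ := hsmall
      refine ⟨by rw [hq]; rfl, rfl, ?_⟩
      norm_num at hbound ⊢
      linarith
    exfalso
    rcases le_or_gt 2 j with hj2 | hj2
    · have h10 : K ^ 10 ≤ K ^ (2 * (2 * j + 1)) := Nat.pow_le_pow_right (by omega) (by omega)
      have e : K ^ 10 = K ^ 5 * K ^ 5 := by ring
      have : 2 ^ 5 ≤ K ^ 5 := Nat.pow_le_pow_left hK 5
      have : 4 * K ^ 5 ≤ K ^ 10 := by rw [e]; exact Nat.mul_le_mul_right _ (by omega)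
      omega
    · obtain rfl : j = 1 := by omega
      have hK3 : 3 ≤ K := by omega
      have : 3 * K ^ 5 ≤ K ^ 6 := by rw [show K ^ 6 = K * K ^ 5 by ring]; exact Nat.mul_le_mul_right _ hK3
      norm_num at hbound
      omega

theorem gcd_three_of_sq {K : ℕ} (hq : q = K ^ 2) {k : ℕ} (hk : K = 2 ^ k) : Nat.gcd 3 (q + 1) = 1 := by
  have h1 : q % 3 = 1 := by
    rw [hq, hk, ← pow_mul, mul_comm, pow_mul, Nat.pow_mod]
    norm_num
  rw [Nat.gcd_comm]
  refine Nat.Coprime.symm ((Nat.Prime.coprime_iff_not_dvd Nat.prime_three).2 ?_)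
  omega

/-- Only the field with eight elements survives. -/
theorem even_case (hq : 3 ≤ q) (hbig : (q ^ 3 + 1) * (q ^ 2 - 1) ≤ Nat.card H) (hH : H ≠ ⊤)
    (hZ : ∀ f : Fr B, Z0 H f ≠ ⊥) : q = 8 ∧ Nat.card H = 36936 := by
  classical
  haveI : Fact (Nat.Prime 2) := ⟨Nat.prime_two⟩
  have h := C.herm
  obtain ⟨r, -, hr0, hrr⟩ := h.exists_isotropic (nondegOn_iff.2 fun x _ hx => C.sep x fun y => hx y trivial :
      NondegOn B (⊤ : Submodule F V)) (by rw [finrank_top, C.dim]; omega)
  obtain ⟨f, -⟩ := exists_fr C hr0 hrr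
  obtain ⟨⟨c₀, hc₀⟩, hc₀'⟩ := @exists_ne _ ((AddSubgroup.nontrivial_iff_ne_bot _).2 (hZ f)) (0 : Z0 H f)
  have hc₀0 : c₀ ≠ 0 := fun e => hc₀' (Subtype.ext e)
  have h2F : (2 : F) = 0 := CharTwo.two_eq_zero
  -- the subfield of scalars
  have hK1 : ∀ k : F, k * c₀ ∈ Z0 H f → k ≠ 0 → ∃ α ∈ mults C H f, (α : F) * σ (α : F) = k := by
    intro k hk hk0
    obtain ⟨α, hα, e⟩ := mults_transitive C H hbig hZ f hc₀ hk hc₀0 (mul_ne_zero hk0 hc₀0)
    exact ⟨α, hα, mul_right_cancel₀ hc₀0 e⟩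
  have hmul : ∀ a b : F, a * c₀ ∈ Z0 H f → b * c₀ ∈ Z0 H f → a * b * c₀ ∈ Z0 H f := by
    intro a b ha hb
    by_cases ha0 : a = 0
    · simp [ha0]
    obtain ⟨α, hα, rfl⟩ := hK1 a ha ha0
    rw [mul_assoc]
    exact (mults_act C H f hα).2 _ hb
  let K : Subfield F :=
    { carrier := {k | k * c₀ ∈ Z0 H f}
      zero_mem' := by simp
      one_mem' := by simpa using hc₀
      add_mem' := fun {a b} ha hb => by
        change (a + b) * c₀ ∈ Z0 H f
        rw [add_mul]; exact add_mem ha hb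
      neg_mem' := fun {a} ha => by
        change -a * c₀ ∈ Z0 H f
        rw [neg_mul]; exact neg_mem ha
      mul_mem' := fun {a b} ha hb => hmul a b ha hb
      inv_mem' := fun a ha => by
        by_cases ha0 : a = 0
        · subst ha0; simp
        obtain ⟨α, hα, e⟩ := hK1 a ha ha0
        have h1 := (mults_act C H f (inv_mem hα)).2 _ hc₀
        change a⁻¹ * c₀ ∈ Z0 H f
        rwa [← e, mul_inv, ← map_inv₀, ← Units.val_inv_eq_inv_val] }
  have hmemK : ∀ k : F, k ∈ K ↔ k * c₀ ∈ Z0 H f := fun k => Iff.rfl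
  have hσc : σ c₀ = -c₀ := eq_neg_of_add_eq_zero_right (Z0_trace C H f hc₀)
  have hKfix : K ≤ fixedField σ := fun k hk => by
    have := Z0_trace C H f ((hmemK k).1 hk)
    rw [map_mul, hσc] at this
    have e : (k - σ k) * c₀ = 0 := by linear_combination this
    exact mem_fixedField.2 (sub_eq_zero.1 ((mul_eq_zero.1 e).resolve_right hc₀0)).symm
  have hKcard : Nat.card (Z0 H f) = Nat.card K := by
    refine Nat.card_eq_of_bijective (fun z : Z0 H f => (⟨(z : F) / c₀, (hmemK _).2 (by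
      rw [div_mul_cancel₀ _ hc₀0]; exact z.2)⟩ : K)) ⟨fun a b e => ?_, fun k => ⟨⟨k * c₀, (hmemK _).1 k.2⟩,
      Subtype.ext (mul_div_cancel_right₀ _ hc₀0)⟩⟩
    exact Subtype.ext ((div_left_inj' hc₀0).1 (congrArg Subtype.val e))
  haveI : Fintype K := Fintype.ofFinite _
  set k := Fintype.card K with hk
  have hkc : Nat.card K = k := Nat.card_eq_fintype_card
  obtain ⟨k', -, hk2⟩ := FiniteField.card K 2
  have hk2' : 2 ≤ k := Fintype.one_lt_card
  obtain ⟨x, hx, hxn⟩ := exists_not_mem_Z0 C H hq hbig hH f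
  obtain ⟨m, hm, hqm⟩ : ∃ m, 2 ≤ m ∧ q = k ^ m := by
    letI : Algebra K (fixedField σ) := (Subfield.inclusion hKfix).toAlgebra
    haveI : Fintype (fixedField σ) := Fintype.ofFinite _
    have hm := Module.card_eq_pow_finrank (K := K) (V := fixedField σ)
    have hc : Fintype.card (fixedField σ) = q := by rw [← Nat.card_eq_fintype_card, natCard_fixedField C]
    have hlt : k < Fintype.card (fixedField σ) := by
      refine Fintype.card_lt_of_injective_of_notMem (fun t : K => (⟨t.1, hKfix t.2⟩ : fixedField σ))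
        (fun a b e => Subtype.ext (congrArg (fun u : fixedField σ => (u : F)) e))
        (b := ⟨x / c₀, mem_fixedField.2 (by rw [map_div₀, hσc, eq_neg_of_add_eq_zero_right hx, neg_div_neg_eq])⟩) ?_
      rintro ⟨t, ht⟩
      have e : t.1 = x / c₀ := congrArg (fun u : fixedField σ => (u : F)) ht
      exact hxn (by rw [show x = t.1 * c₀ by rw [e, div_mul_cancel₀ _ hc₀0]]; exact (hmemK _).1 t.2)
    refine ⟨finrank K (fixedField σ), ?_, by rw [← hc, hm]⟩
    by_contra hd
    push Not at hd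
    interval_cases hh : finrank K (fixedField σ) <;> simp at hm <;> omega
  -- the multipliers
  set A := mults C H f
  set nA := (normHom σ).comp A.subtype
  have hrange : Nat.card nA.range = k - 1 := by
    rw [← hkc, ← Nat.card_units K]
    refine (Nat.card_eq_of_bijective (fun u : Kˣ => (⟨Units.map K.subtype.toMonoidHom u, ?_⟩ : nA.range)) ⟨?_, ?_⟩).symm
    · obtain ⟨α, hα, e⟩ := hK1 (u : K) ((hmemK _).1 (u : K).2) (fun e => u.ne_zero (Subtype.ext e))
      exact ⟨⟨α, hα⟩, Units.ext e⟩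
    · exact fun a b e => Units.map_injective K.subtype.injective (congrArg Subtype.val e)
    · rintro ⟨u, ⟨α, hα⟩, e⟩
      have hu : (u : F) ∈ K := (hmemK _).2 (by
        rw [← e]; exact (mults_act C H f hα).2 _ hc₀)
      exact ⟨Units.mk0 ⟨u, hu⟩ (fun e' => u.ne_zero (congrArg Subtype.val e')), Subtype.ext (Units.ext rfl)⟩
  have hA : Nat.card A = (k - 1) * Nat.card nA.ker := by
    rw [← hrange, ← Subgroup.index_ker, mul_comm]
    exact nA.ker.card_mul_index.symm
  have hker1 : ∀ α : nA.ker, (α.1.1 : F) * σ (α.1.1 : F) = 1 := fun α => congrArg Units.val (MonoidHom.mem_ker.1 α.2)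
  have hkerq : Nat.card nA.ker ∣ q + 1 := by
    rw [← (frob_cards C.card C.frob h.conj).2]
    refine Subgroup.card_dvd_of_injective (((A.subtype).comp nA.ker.subtype).codRestrict _ fun α =>
      MonoidHom.mem_ker.2 (Units.ext (hker1 α))) fun a b e => Subtype.ext (Subtype.ext ?_)
    exact congrArg (fun x : (normHom σ).ker => (x : Fˣ)) e
  set W := Wp C H f
  have hbound : q ^ 2 - 1 ≤ (k - 1) * Nat.card nA.ker * (Nat.card W * k) := by
    have := stab_bound C 2 H f hbig
    rwa [hA, hKcard, hkc] at this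
  have hsq : ∀ t ∈ W, σ t * t ∈ Z0 H f := fun t ⟨c, hc⟩ => by
    have h1 := hc.mul hc f.vv (by simp [f.wv C]) (by simp [f.vw])
    rw [← add_smul, CharTwo.add_self_eq_zero, zero_smul] at h1
    rw [mem_Z0]
    convert h1 using 1
    simp only [map_smulₛₗ, map_smul, LinearMap.smul_apply, smul_eq_mul, f.ww, RingHom.id_apply]
    linear_combination (σ t * t - c) * h2F
  by_cases hW : W = ⊥
  · exfalso
    rw [hW, AddSubgroup.card_bot, one_mul] at hbound
    have h1 := Nat.le_of_dvd (by omega) hkerq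
    have h2 : k ^ 2 ≤ q := hqm ▸ Nat.pow_le_pow_right (by omega) hm
    have h3 : (k - 1) * Nat.card nA.ker * k ≤ (k - 1) * k * (q + 1) := by
      rw [mul_right_comm]; exact Nat.mul_le_mul_left _ h1
    have h4 : (k - 1) * k + 2 ≤ q := by
      have : (k - 1) * k + k = k ^ 2 := by
        calc _ = (k - 1 + 1) * k := by ring
          _ = k ^ 2 := by rw [Nat.sub_add_cancel (by omega : 1 ≤ k)]; ring
      omega
    have h5 := Nat.mul_le_mul_right (q + 1) h4
    rw [add_mul] at h5
    have h6 : q * (q + 1) = q ^ 2 + q := by ring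
    omega
  obtain ⟨⟨t₀, ht₀⟩, ht₀'⟩ := @exists_ne _ ((AddSubgroup.nontrivial_iff_ne_bot _).2 hW) (0 : W)
  have ht0 : t₀ ≠ 0 := fun e => ht₀' (Subtype.ext e)
  let U : AddSubgroup F := W.comap (AddMonoidHom.mulRight t₀)
  have hmemU : ∀ u, u ∈ U ↔ u * t₀ ∈ W := fun u => Iff.rfl
  have hU : Nat.card U = Nat.card W := Nat.card_eq_of_bijective (fun u : U => (⟨u.1 * t₀, u.2⟩ : W))
    ⟨fun a b e => Subtype.ext (mul_right_cancel₀ ht0 (congrArg Subtype.val e)), fun w =>
      ⟨⟨w.1 / t₀, (hmemU _).2 (by rw [div_mul_cancel₀ _ ht0]; exact w.2)⟩, Subtype.ext (div_mul_cancel₀ _ ht0)⟩⟩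
  have hN0 : (σ t₀ * t₀) / c₀ ∈ K := (hmemK _).2 (by rw [div_mul_cancel₀ _ hc₀0]; exact hsq _ ht₀)
  have hN : ∀ u ∈ U, σ u * u ∈ K := fun u hu => by
    have h1 : (σ (u * t₀) * (u * t₀)) / c₀ ∈ K := (hmemK _).2 (by
      rw [div_mul_cancel₀ _ hc₀0]; exact hsq _ ((hmemU u).1 hu))
    have h2 := div_mem h1 hN0
    have hne : σ t₀ * t₀ ≠ 0 := mul_ne_zero (sigma_ne_zero C ht0) ht0
    rwa [map_mul, show σ u * σ t₀ * (u * t₀) / c₀ / (σ t₀ * t₀ / c₀) = σ u * u by
      rw [div_div_div_cancel_right₀ hc₀0, eq_comm, eq_div_iff hne]; ring] at h2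
  have h1U : (1 : F) ∈ U := (hmemU 1).2 (by rwa [one_mul])
  have htr : ∀ u ∈ U, u + σ u ∈ K := fun u hu => by
    have := sub_mem (sub_mem (hN _ (add_mem hu h1U)) (hN _ hu)) (one_mem K)
    convert this using 1
    rw [map_add, map_one]; ring
  have hWK : Nat.card W ≤ k * k := by
    rw [← hU]
    let T : U →+ K :=
      { toFun := fun u => ⟨u.1 + σ u.1, htr _ u.2⟩
        map_zero' := Subtype.ext (by simp)
        map_add' := fun a b => Subtype.ext (by simp [map_add]; ring) }
    have h1 := AddSubgroup.card_mul_index T.ker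
    rw [AddSubgroup.index_ker] at h1
    rw [← h1]
    refine Nat.mul_le_mul ?_ ((Nat.card_le_card_of_injective Subtype.val Subtype.val_injective).trans hkc.le)
    rw [← hkc]
    have hsq2 : Function.Surjective (fun y : K => y * y) := Finite.injective_iff_surjective.1 fun a b e => by
      have : ((a : F) - b) * ((a : F) - b) = 0 := by
        have e' : (a : F) * a = b * b := congrArg (fun y : K => (y : F)) e
        linear_combination e' + ((b : F) * b - a * b) * h2F
      exact Subtype.ext (sub_eq_zero.1 (mul_self_eq_zero.1 this))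
    refine Nat.card_le_card_of_injective (fun u : T.ker => (⟨u.1.1, ?_⟩ : K)) fun a b e =>
      Subtype.ext (Subtype.ext (congrArg (fun y : K => (y : F)) e))
    have hu : u.1.1 + σ u.1.1 = 0 := congrArg (fun y : K => (y : F)) (AddMonoidHom.mem_ker.1 u.2)
    have hfix : σ u.1.1 = u.1.1 := by linear_combination hu - u.1.1 * h2F
    have h3 := hN _ u.1.2
    rw [hfix] at h3
    obtain ⟨y, hy⟩ := hsq2 ⟨_, h3⟩
    have e' : (y : F) * y = u.1.1 * u.1.1 := congrArg (fun y : K => (y : F)) hy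
    have : ((y : F) - u.1.1) * ((y : F) - u.1.1) = 0 := by
      linear_combination e' + (u.1.1 * u.1.1 - (y : F) * u.1.1) * h2F
    rw [← sub_eq_zero.1 (mul_self_eq_zero.1 this)]
    exact y.2
  -- multipliers of norm one
  let xh : nA.ker →* Fˣ :=
    { toFun := fun α => (Units.map (σ : F →* F) α.1.1) ^ 2 / α.1.1
      map_one' := by simp
      map_mul' := fun a b => by
        simp only [Subgroup.coe_mul, map_mul, mul_pow]
        rw [mul_div_mul_comm] }
  have hxU : ∀ α : nA.ker, ((xh α : Fˣ) : F) ∈ U := fun α => by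
    rw [hmemU]
    have := (mults_act C H f α.1.2).1 t₀ ht₀
    convert this using 2
    change (((Units.map (σ : F →* F) α.1.1) ^ 2 / α.1.1 : Fˣ) : F) = _
    rw [Units.val_div_eq_div_val, pow_two]
    rfl
  have hkx : Nat.card xh.ker ≤ Nat.gcd 3 (q + 1) := by
    let ι : nA.ker →* Fˣ := A.subtype.comp nA.ker.subtype
    have hι : Function.Injective ι := fun a b e => Subtype.ext (Subtype.ext e)
    rw [← Subgroup.card_map_of_injective hι]
    refine card_roots_pow_le _ (Nat.gcd_pos_of_pos_left _ (by norm_num)) _ ?_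
    rintro _ ⟨α, hα, rfl⟩
    have e1 : (Units.map (σ : F →* F) α.1.1) ^ 2 = α.1.1 := div_eq_one.1 (MonoidHom.mem_ker.1 hα)
    have e2 : α.1.1 * Units.map (σ : F →* F) α.1.1 = 1 := Units.ext (hker1 α)
    refine pow_gcd_eq_one.2 ⟨?_, ?_⟩
    · change α.1.1 ^ 3 = 1
      calc α.1.1 ^ 3 = (Units.map (σ : F →* F) α.1.1) ^ 2 * α.1.1 ^ 2 := by rw [e1, ← pow_succ']
        _ = (α.1.1 * Units.map (σ : F →* F) α.1.1) ^ 2 := by rw [mul_comm, mul_pow]
        _ = 1 := by rw [e2, one_pow]
    · change α.1.1 ^ (q + 1) = 1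
      rw [pow_succ', ← e2]
      congr 1
      exact Units.ext (by simp [C.frob])
  have hker : Nat.card nA.ker ≤ Nat.gcd 3 (q + 1) * Nat.card xh.range := by
    rw [← Subgroup.index_ker, ← xh.ker.card_mul_index]
    exact Nat.mul_le_mul_right _ hkx
  obtain ⟨ξ, hξ⟩ := IsCyclic.exists_generator (α := xh.range)
  obtain ⟨α, hα⟩ := ξ.2
  have hξN : ((ξ : Fˣ) : F) * σ ((ξ : Fˣ) : F) = 1 := by
    rw [← hα]
    change (((Units.map (σ : F →* F) α.1.1) ^ 2 / α.1.1 : Fˣ) : F) *
      σ (((Units.map (σ : F →* F) α.1.1) ^ 2 / α.1.1 : Fˣ) : F) = 1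
    rw [Units.val_div_eq_div_val, pow_two, Units.val_mul, Units.coe_map, MonoidHom.coe_coe, map_div₀, map_mul,
      h.conj.invol]
    have hs : σ (α.1.1 : F) ≠ 0 := sigma_ne_zero C α.1.1.ne_zero
    field_simp
    linear_combination hker1 α
  set X := ((ξ : Fˣ) : F) with hXdef
  have hX0 : X ≠ 0 := Units.ne_zero _
  have hXU : X ∈ U := by rw [hXdef, ← hα]; exact hxU α
  by_cases hX1 : X = 1
  · exfalso
    have hr : Nat.card xh.range = 1 := by
      rw [← orderOf_eq_card_of_forall_mem_zpowers hξ, orderOf_eq_one_iff]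
      exact Subtype.ext (Units.ext hX1)
    rw [hr, mul_one] at hker
    refine (even_arith C hk2' hm hWK hqm hbound).1 (fun hm2 => ?_) fun _ => hker.trans (Nat.gcd_le_left _ (by norm_num))
    rwa [gcd_three_of_sq C (by rw [hqm, hm2]) (k := (k' : ℕ)) (by rw [hk, hk2])] at hker
  have hroot : X ^ k = σ X ∧ σ X ^ k = X := by
    haveI : Fact (Nat.Prime 2) := ⟨Nat.prime_two⟩
    have htK : X + σ X ∈ K := htr _ hXU
    have hpk : (X + σ X) ^ k = X + σ X := by
      have := FiniteField.pow_card (⟨_, htK⟩ : K)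
      simpa [hk] using congrArg (fun y : K => (y : F)) this
    have hadd : ∀ a b : F, (a + b) ^ k = a ^ k + b ^ k := fun a b => by
      rw [hk, hk2]; exact add_pow_char_pow ..
    have hσi : σ X = X⁻¹ := eq_inv_of_mul_eq_one_right hξN
    rw [hadd, hσi, inv_pow] at hpk
    have hp0 : X ^ k ≠ 0 := pow_ne_zero _ hX0
    have : (X ^ k - X) * (X ^ k * X - 1) = 0 := by
      field_simp at hpk
      linear_combination hpk
    rcases mul_eq_zero.1 this with e | e
    · exfalso
      have hfix : σ X = X := by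
        rw [C.frob, hqm]
        clear_value X
        clear hqm hbound hm
        induction m with
        | zero => simp
        | succ m ih => rw [pow_succ, pow_mul, ih, sub_eq_zero.1 e]
      rw [hfix] at hξN
      exact hX1 (sq_eq_one_char_two C H hbig hξN)
    · have e1 : X ^ k = X⁻¹ := eq_inv_of_mul_eq_one_left (sub_eq_zero.1 e)
      exact ⟨by rw [e1, hσi], by rw [hσi, inv_pow, e1, inv_inv]⟩
  have hodd : Odd m := by
    by_contra hev
    obtain ⟨j, hj⟩ := Nat.not_odd_iff_even.1 hev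
    refine hX1 (sq_eq_one_char_two C H hbig ?_)
    have hfix : σ X = X := by
      rw [C.frob, hqm, hj, ← two_mul]
      clear hj
      induction j with
      | zero => simp
      | succ j ih => rw [show 2 * (j + 1) = 2 * j + 1 + 1 by ring, pow_succ, pow_succ, pow_mul, pow_mul, ih, hroot.1, hroot.2]
    rwa [hfix] at hξN
  have hrange' : Nat.card xh.range ≤ k + 1 := by
    rw [← orderOf_eq_card_of_forall_mem_zpowers hξ]
    refine orderOf_le_of_pow_eq_one (by omega) (Subtype.ext (Units.ext ?_))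
    change X ^ (k + 1) = 1
    rw [pow_succ, hroot.1, mul_comm]
    exact hξN
  have hle : Nat.card nA.ker ≤ 3 * (k + 1) :=
    hker.trans (Nat.mul_le_mul (Nat.gcd_le_left _ (by norm_num)) hrange')
  obtain ⟨hq8, hk8, h63⟩ := (even_arith C hk2' hm hWK hqm hbound).2 hodd hle
  refine ⟨hq8, ?_⟩
  obtain ⟨a, ha⟩ := addSubgroup_card 2 W
  have hw4 : Nat.card W ≤ 4 := by rw [hk8] at hWK; exact hWK
  have hker9 : Nat.card nA.ker ∣ 9 := by rw [hq8] at hkerq; exact hkerq
  have hk9 := Nat.le_of_dvd (by norm_num) hker9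
  have hw : Nat.card W = 4 := by
    rw [ha] at hw4 ⊢
    have : a ≤ 2 := by
      by_contra hh
      have := Nat.pow_le_pow_right (show 1 ≤ 2 by norm_num) (show 3 ≤ a by omega)
      omega
    interval_cases a <;> rw [ha, hk8] at h63 <;> omega
  have hk9' : Nat.card nA.ker = 9 := by
    rw [hw, hk8] at h63
    have : 8 ≤ Nat.card nA.ker := by omega
    interval_cases hh : Nat.card nA.ker <;> first | rfl | norm_num at hker9
  rw [card_H C 2 H f hbig, hA, hKcard, hkc, hk8]
  change (q ^ 3 + 1) * ((2 - 1) * Nat.card nA.ker * (Nat.card W * 2)) = 36936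
  rw [show q ^ 3 + 1 = 513 by rw [hq8]; norm_num, hw, hk9']

end CfsgLib.KnownA.MinIndexU3
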