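import Cfsg.Agent.Lib.KnownA.MinIndexU3.Final

/-!
# The stabiliser of an isotropic point
-/

set_option autoImplicit false
set_option linter.unusedSectionVars false
set_option linter.style.haveILetI false

open Module MulAction CfsgLib.Classical CfsgLib.Classical.SUUnipotent

namespace CfsgLib.KnownA.MinIndexU3

variable {F : Type*} [Field F] [Fintype F] {V : Type*} [AddCommGroup V] [Module F V] [FiniteDimensional F V]
  [Finite V] {σ : F →+* F} {B : V →ₛₗ[σ] V →ₗ[F] F} {q : ℕ} (C : U3 B q)
include C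

/-- A point stabiliser has index `q ^ 3 + 1` and contains the centre. -/
theorem exists_point_stabiliser : ∃ K : Subgroup (sIsom B),
    Subgroup.center (sIsom B) ≤ K ∧ K.index = q ^ 3 + 1 := by
  obtain ⟨f, -⟩ := exists_frame C
  haveI : IsPretransitive (sIsom B) (IsoPts B) := C.herm.isoPts_pretransitive C.sep
  refine ⟨stabilizer (sIsom B) f.pt, fun k hk => ?_, ?_⟩
  · obtain ⟨c, hc0, hc⟩ := C.herm.conj.exists_trace_zero
    obtain ⟨t, htE, htd⟩ := exists_isE C.herm C.sep (a := f.v) (ω := 0) (c := c) f.vv (map_zero _) (by simp [hc])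
    let t' : sIsom B := ⟨t, MonoidHom.mem_ker.2 htd⟩
    have hconj : IsE t (k.1.1 f.v) 0 c := by
      have h1 := htE.conj k.1
      have h2 : k.1 * t * k.1⁻¹ = t := by
        have := Subgroup.mem_center_iff.1 hk t'
        have e : t * k.1 = k.1 * t := congrArg (fun g : sIsom B => g.1) this
        rw [← e, mul_inv_cancel_right]
      rwa [h2, map_zero] at h1
    have e1 := (isE_zero_iff.1 htE f.s).symm.trans (isE_zero_iff.1 hconj f.s)
    rw [f.vs, mul_one, add_left_cancel_iff] at e1
    refine (smul_pt_iff C k f.v_ne_zero f.vv f.v_ne_zero f.vv).2 ⟨c / (c * B (k.1.1 f.v) f.s), ?_⟩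
    have hne : c * B (k.1.1 f.v) f.s ≠ 0 := fun e => by
      rw [e, zero_smul, smul_eq_zero] at e1
      exact e1.elim hc0 f.v_ne_zero
    apply smul_right_injective V hne
    change (c * B (k.1.1 f.v) f.s) • k.1.1 f.v = (c * B (k.1.1 f.v) f.s) • (c / (c * B (k.1.1 f.v) f.s)) • f.v
    rw [← e1, smul_smul, mul_div_cancel₀ _ hne]
  · rw [MulAction.index_stabilizer, ← Nat.card_coe_set_eq, orbit_eq_univ, Nat.card_univ, card_isoPts C]

end CfsgLib.KnownA.MinIndexU3
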