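import Cfsg.Agent.Lib.KnownA.MinIndexU3.Special

/-!
# A large subgroup of the three-dimensional special unitary group is everything
-/

set_option autoImplicit false
set_option linter.unusedSectionVars false
set_option linter.style.haveILetI false

open Module MulAction CfsgLib.Classical CfsgLib.Classical.SUUnipotent

namespace CfsgLib.KnownA.MinIndexU3

variable {F : Type*} [Field F] [Fintype F] {V : Type*} [AddCommGroup V] [Module F V] [FiniteDimensional F V]
  [Finite V] {σ : F →+* F} {B : V →ₛₗ[σ] V →ₗ[F] F} {q : ℕ} (C : U3 B q) (H : Subgroup (sIsom B))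
include C

/-- The index of a Sylow normaliser. -/
theorem sylow_data {r n : ℕ} [Fact r.Prime] (hH : Nat.card H = r * n) (hn : ¬ r ∣ n) :
    ∃ (P : Sylow r H) (x : H), orderOf x = r ∧ (P : Subgroup H) = Subgroup.zpowers x ∧
      (Subgroup.normalizer ((Subgroup.zpowers x : Subgroup H) : Set H)).index ∣ n ∧
      (Subgroup.normalizer ((Subgroup.zpowers x : Subgroup H) : Set H)).index % r = 1 := by
  obtain ⟨P⟩ : Nonempty (Sylow r H) := inferInstance
  have hn0 : n ≠ 0 := fun e => hn (e ▸ dvd_zero r)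
  have hr : r.Prime := Fact.out
  have hP : Nat.card P = r := by
    rw [P.card_eq_multiplicity, hH, Nat.factorization_mul hr.ne_zero hn0, Finsupp.add_apply, hr.factorization_self,
      Nat.factorization_eq_zero_of_not_dvd hn, add_zero, pow_one]
  haveI : IsCyclic (P : Subgroup H) := isCyclic_of_prime_card hP
  obtain ⟨x, hx⟩ := IsCyclic.exists_generator (α := (P : Subgroup H))
  have hxo : orderOf (x : H) = r := by rw [Subgroup.orderOf_coe, orderOf_eq_card_of_forall_mem_zpowers hx, hP]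
  have hPx : (P : Subgroup H) = Subgroup.zpowers (x : H) :=
    (Subgroup.eq_of_le_of_card_ge (Subgroup.zpowers_le.2 x.2) (by rw [Nat.card_zpowers, hxo, hP])).symm
  have h1 := P.card_dvd_index
  have h2 := card_sylow_modEq_one r H
  rw [Sylow.card_eq_index_normalizer P] at h1
  change (Subgroup.normalizer ((P : Subgroup H) : Set H)).index ∣ (P : Subgroup H).index at h1
  rw [hPx] at h1
  rw [Sylow.card_eq_index_normalizer P] at h2
  change (Subgroup.normalizer ((P : Subgroup H) : Set H)).index % r = 1 % r at h2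
  rw [hPx] at h2
  have hidx : (Subgroup.zpowers (x : H)).index = n := by
    have := (Subgroup.zpowers (x : H)).card_mul_index
    rw [Nat.card_zpowers, hxo, hH] at this
    exact Nat.eq_of_mul_eq_mul_left hr.pos this
  rw [hidx] at h1
  refine ⟨P, x, hxo, hPx, h1, ?_⟩
  rwa [Nat.one_mod_eq_one.2 hr.ne_one] at h2

/-- The order 224. -/
theorem not_224 (hq : q = 3) (hbig : (q ^ 3 + 1) * (q ^ 2 - 1) ≤ Nat.card H) (h2 : (2 : F) ≠ 0)
    (hH : Nat.card H = 224) : False := by
  haveI : Fact (Nat.Prime 7) := ⟨by norm_num⟩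
  obtain ⟨P, x, hx, hPx, hi, hm⟩ := sylow_data C H (r := 7) (n := 32) (by rw [hH]) (by norm_num)
  set N := Subgroup.normalizer ((Subgroup.zpowers x : Subgroup H) : Set H)
  have hi' : N.index = 1 ∨ N.index = 8 := by
    have := Nat.le_of_dvd (by norm_num) hi
    interval_cases h : N.index <;> omega
  have hN : 4 ∣ Nat.card N := by
    have h3 := N.card_mul_index
    rw [hH] at h3
    rcases hi' with e | e <;> rw [e] at h3 <;> omega
  let K := (Subgroup.centralizer ((Subgroup.zpowers x : Subgroup H) : Set H)).subgroupOf N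
  have hK : K.index ∣ 6 := by
    have h4 := (Subgroup.normalizerMonoidHom (Subgroup.zpowers x)).ker
    have h5 : Nat.card (MulAut (Subgroup.zpowers x)) = 6 := by
      rw [IsCyclic.card_mulAut, Nat.card_zpowers, hx]
      decide
    have h6 := Subgroup.card_subgroup_dvd_card (Subgroup.normalizerMonoidHom (Subgroup.zpowers x)).range
    rw [← Subgroup.index_ker, Subgroup.normalizerMonoidHom_ker, h5] at h6
    exact h6
  have h2K : 2 ∣ Nat.card K := by
    have h3 := K.card_mul_index
    by_contra hodd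
    have hc : Nat.Coprime 4 (Nat.card K) :=
      (Nat.Coprime.pow_left 2 ((Nat.Prime.coprime_iff_not_dvd Nat.prime_two).2 hodd) : Nat.Coprime (2 ^ 2) _)
    have : 4 ∣ K.index := hc.dvd_of_dvd_mul_left (h3 ▸ hN)
    have := this.trans hK
    omega
  haveI : Fact (Nat.Prime 2) := ⟨Nat.prime_two⟩
  obtain ⟨j, hj⟩ := exists_prime_orderOf_dvd_card' 2 h2K
  refine no_commute_odd C H (r := 7) (by norm_num) hbig ?_ hx (by omega) h2 (j := ((j : N) : H))
    (by rw [Subgroup.orderOf_coe, Subgroup.orderOf_coe, hj]) ?_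
  · rw [hH, hq]; norm_num
  · exact (Subgroup.mem_centralizer_iff.1 (Subgroup.mem_subgroupOf.1 j.2) x (Subgroup.mem_zpowers x)).symm

/-- The order 36936. -/
theorem not_36936 [CharP F 2] (hq : q = 8) (hbig : (q ^ 3 + 1) * (q ^ 2 - 1) ≤ Nat.card H)
    (hH : Nat.card H = 36936) (hZ : ∀ f : Fr B, Z0 H f ≠ ⊥) : False := by
  haveI : Fact (Nat.Prime 19) := ⟨by norm_num⟩
  haveI : Fact (Nat.Prime 2) := ⟨Nat.prime_two⟩
  obtain ⟨P, x, hx, hPx, hi, hm⟩ := sylow_data C H (r := 19) (n := 1944) (by rw [hH]) (by norm_num)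
  set N := Subgroup.normalizer ((Subgroup.zpowers x : Subgroup H) : Set H)
  have hi' : N.index = 1 ∨ N.index = 324 := by
    have key : ∀ d ∈ Nat.divisors 1944, d % 19 = 1 → d = 1 ∨ d = 324 := by decide +kernel
    exact key _ (Nat.mem_divisors.2 ⟨hi, by norm_num⟩) hm
  have hN : 2 ∣ Nat.card N := by
    have h3 := N.card_mul_index
    rw [hH] at h3
    rcases hi' with e | e <;> rw [e] at h3 <;> omega
  obtain ⟨j', hj'⟩ := exists_prime_orderOf_dvd_card' 2 hN
  set j : H := (j' : H)
  have hj : orderOf j = 2 := by rw [Subgroup.orderOf_coe, hj']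
  have hjj : j * j = 1 := by rw [← pow_two, ← hj]; exact pow_orderOf_eq_one j
  have hrH : ¬ 19 * (q ^ 3 + 1) ∣ Nat.card H := by rw [hH, hq]; norm_num
  obtain ⟨f, c, hjE, hjf⟩ := involution_form C H hbig hZ hjj
  have hj1 : j ≠ 1 := fun e => by rw [e, orderOf_one] at hj; exact absurd hj (by norm_num)
  rcases involution_normalizer C H hx hj j'.2 with hc | hc
  · refine no_fixed_point C H (r := 19) (by norm_num) hbig hrH hx f.pt ?_
    exact rad_fix C H f (mem_rad_of_pow C 2 H f hjf (n := 1) (by rw [pow_one, pow_two]; exact hjj)) hj1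
      (by rw [← mul_smul, hc, mul_smul, hjf])
  · have hk : (j * x) * (j * x) = 1 := by
      have hji : j⁻¹ = j := inv_eq_of_mul_eq_one_right hjj
      rw [hji] at hc
      rw [← mul_assoc, hc, inv_mul_cancel]
    obtain ⟨f', c', hkE, -⟩ := involution_form C H hbig hZ hk
    let T : V →ₗ[F] F × F := (B f.v).prod (B f'.v)
    obtain ⟨w, hw, hw0⟩ := Submodule.exists_mem_ne_zero_of_ne_bot
      (LinearMap.ker_ne_bot_of_finrank_lt (f := T) (by rw [Module.finrank_prod, Module.finrank_self, C.dim]; norm_num))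
    have hw' := LinearMap.mem_ker.1 hw
    have e1 : B f.v w = 0 := congrArg Prod.fst hw'
    have e2 : B f'.v w = 0 := congrArg Prod.snd hw'
    refine no_fixed_vector C H (r := 19) (by norm_num) hbig hrH hx (by omega) hw0 ?_
    have g1 : j.1.1.1 w = w := by rw [isE_zero_iff.1 hjE, e1, mul_zero, zero_smul, add_zero]
    have g2 : (j * x).1.1.1 w = w := by rw [isE_zero_iff.1 hkE, e2, mul_zero, zero_smul, add_zero]
    calc x.1.1.1 w = (j * (j * x)).1.1.1 w := by rw [← mul_assoc, hjj, one_mul]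
      _ = j.1.1.1 ((j * x).1.1.1 w) := rfl
      _ = w := by rw [g2, g1]

/-- The order 439560. -/
theorem not_439560 (hq : q = 11) (hbig : (q ^ 3 + 1) * (q ^ 2 - 1) ≤ Nat.card H) (h2 : (2 : F) ≠ 0)
    (hH : Nat.card H = 439560) (hA : ∀ e : Fr B, 30 = Nat.card (mults C H e))
    (hne : ∀ e : Fr B, rad H e ≠ ⊥) : False := by
  classical
  haveI : Fact (Nat.Prime 37) := ⟨by norm_num⟩
  haveI : Fact (Nat.Prime 3) := ⟨by norm_num⟩
  haveI : Fact (Nat.Prime 2) := ⟨Nat.prime_two⟩
  haveI : Fact (Nat.Prime 11) := ⟨by norm_num⟩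
  haveI : CharP F 11 := by
    obtain ⟨p, hc⟩ := CharP.exists F
    haveI : Fact p.Prime := ⟨CharP.char_is_prime F p⟩
    obtain ⟨n, hn, hqn⟩ := exists_pow C p
    have : p ∣ 11 := hq ▸ hqn ▸ dvd_pow_self p hn.ne'
    rwa [← (Nat.prime_dvd_prime_iff_eq Fact.out (by norm_num : Nat.Prime 11)).1 this]
  obtain ⟨P, x, hx, hPx, hi, hm⟩ := sylow_data C H (r := 37) (n := 11880) (by rw [hH]) (by norm_num)
  set N := Subgroup.normalizer ((Subgroup.zpowers x : Subgroup H) : Set H) with hNdef
  have hrH : ¬ 37 * (q ^ 3 + 1) ∣ Nat.card H := by rw [hH, hq]; norm_num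
  have hNodd : ¬ 2 ∣ Nat.card N := fun hd => by
    obtain ⟨j', hj'⟩ := exists_prime_orderOf_dvd_card' 2 hd
    have hj : orderOf (j' : H) = 2 := by rw [Subgroup.orderOf_coe, hj']
    rcases involution_normalizer C H hx hj j'.2 with hc | hc
    · exact no_commute_odd C H (r := 37) (by norm_num) hbig hrH hx (by omega) h2 hj hc
    · exact no_inverse_odd C H (r := 37) (by norm_num) hbig hrH hx (by omega) h2 hc
  have hN : Nat.card N = 111 := by
    have h3 := N.card_mul_index
    rw [hH] at h3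
    have h8 : 8 ∣ N.index := by
      have hc : Nat.Coprime 8 (Nat.card N) :=
        (Nat.Coprime.pow_left 3 ((Nat.Prime.coprime_iff_not_dvd Nat.prime_two).2 hNodd) : Nat.Coprime (2 ^ 3) _)
      exact hc.dvd_of_dvd_mul_left (h3 ▸ (by norm_num : 8 ∣ 439560))
    have key : ∀ d ∈ Nat.divisors 11880, d % 37 = 1 → d % 8 = 0 → d = 3960 := by decide +kernel
    rw [key _ (Nat.mem_divisors.2 ⟨hi, by norm_num⟩) hm (Nat.mod_eq_zero_of_dvd h8)] at h3
    omega
  -- a central element of order three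
  obtain ⟨z, hz3, hz⟩ : ∃ z : H, orderOf z = 3 ∧ ∀ g : H, g * z = z * g := by
    obtain ⟨f, -⟩ := exists_frame C
    obtain ⟨α, hα⟩ := exists_prime_orderOf_dvd_card' (G := mults C H f) 3 (hA f ▸ (by norm_num : 3 ∣ 30))
    obtain ⟨g, hg⟩ := α.2
    have hαo : orderOf ((α : Fˣ) : F) = 3 := by rw [orderOf_units, Subgroup.orderOf_coe, hα]
    set a := ((α : Fˣ) : F)
    have hgv : g.1.1.1.1 f.v = a • f.v := by rw [chi_spec C H f g, hg]
    obtain ⟨ha0, e1, e2, e3⟩ := f.shape C hgv (det_eq_one g.1.1)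
    have ha3 : a ^ 3 = 1 := hαo ▸ pow_orderOf_eq_one a
    have hσa : σ a = a ^ 2 := by
      rw [C.frob, hq, show 11 = 3 * 3 + 2 from rfl, pow_add, pow_mul, ha3, one_pow, one_mul]
    rw [hσa] at e1 e3
    have hν : B f.v (g.1.1.1.1 f.s) = a := by
      rw [e1]; exact inv_eq_of_mul_eq_one_right (by rw [← pow_succ, ha3])
    have hμ : B f.w (g.1.1.1.1 f.w) = a := by rw [e3, pow_two, mul_div_assoc, div_self ha0, mul_one]
    set G : Module.End F V := (g.1.1.1.1 : V →ₗ[F] V)
    set M : Module.End F V := G - algebraMap F (Module.End F V) a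
    have hM : ∀ y, M y = g.1.1.1.1 y - a • y := fun y => rfl
    have hMv : M f.v = 0 := by rw [hM, hgv, sub_self]
    have hMw : M f.w = B f.s (g.1.1.1.1 f.w) • f.v := by
      rw [hM]
      conv_lhs => rw [f.expand C (g.1.1.1.1 f.w), e2, hμ]
      module
    have hMs : M f.s = B f.s (g.1.1.1.1 f.s) • f.v + B f.w (g.1.1.1.1 f.s) • f.w := by
      rw [hM]
      conv_lhs => rw [f.expand C (g.1.1.1.1 f.s), hν]
      module
    have hM3 : M ^ 3 = 0 := LinearMap.ext fun y => by
      rw [pow_succ, pow_two, Module.End.mul_apply, Module.End.mul_apply, LinearMap.zero_apply, f.expand C y]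
      simp only [map_add, map_smul, hMv, hMw, hMs, smul_zero, zero_add, add_zero]
    haveI : Nontrivial V := ⟨⟨f.v, 0, f.v_ne_zero⟩⟩
    haveI : CharP (Module.End F V) 11 :=
      charP_of_injective_algebraMap (algebraMap F (Module.End F V)).injective 11
    have hpow : G ^ 11 = algebraMap F (Module.End F V) (a ^ 2) := by
      rw [show G = M + algebraMap F (Module.End F V) a by simp [M],
        add_pow_char_of_commute 11 (Algebra.commutes a M).symm, show M ^ 11 = M ^ 3 * M ^ 8 by rw [← pow_add],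
        hM3, zero_mul, zero_add, ← map_pow]
      congr 1
      rw [show 11 = 3 * 3 + 2 from rfl, pow_add, pow_mul, ha3, one_pow, one_mul]
    have happ : ∀ (n : ℕ) y, (g.1 ^ n).1.1.1 y = (G ^ n) y := fun n => by
      induction n with
      | zero => intro y; rfl
      | succ n ih =>
        intro y
        rw [pow_succ, pow_succ, Module.End.mul_apply]
        exact ih (g.1.1.1.1 y)
    have hzap : ∀ y, (g.1 ^ 11).1.1.1 y = a ^ 2 • y := fun y => by rw [happ, hpow]; rfl
    have ha1 : a ≠ 1 := fun e => by rw [e, orderOf_one] at hαo; exact absurd hαo (by norm_num)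
    refine ⟨g.1 ^ 11, orderOf_eq_prime ?_ fun e => ?_, fun k => ?_⟩
    · refine Subtype.ext (Subtype.ext (Subtype.ext (LinearEquiv.ext fun y => ?_)))
      have e3' : ∀ y, ((g.1 ^ 11) ^ 3).1.1.1 y = (g.1 ^ 11).1.1.1 ((g.1 ^ 11).1.1.1 ((g.1 ^ 11).1.1.1 y)) := fun y => by
        rw [pow_succ, pow_two]; rfl
      change ((g.1 ^ 11) ^ 3).1.1.1 y = y
      rw [e3', hzap, hzap, hzap, smul_smul, smul_smul, ← pow_add, ← pow_add, show 2 + 2 + 2 = 3 * 2 from rfl, pow_mul,
        ha3, one_pow, one_smul]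
    · have := hzap f.v
      rw [e] at this
      have h4 : a ^ 2 = 1 := smul_left_injective F f.v_ne_zero (this.symm.trans (one_smul F f.v).symm)
      refine ha1 ?_
      rw [pow_succ, h4, one_mul] at ha3
      exact ha3
    · generalize g.1 ^ 11 = zz at hzap ⊢
      refine Subtype.ext (Subtype.ext (Subtype.ext (LinearEquiv.ext fun y => ?_)))
      change k.1.1.1 (zz.1.1.1 y) = zz.1.1.1 (k.1.1.1 y)
      rw [hzap, hzap, map_smul]
  have hzN : z ∈ N := by
    rw [hNdef, Subgroup.mem_normalizer_iff]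
    intro h
    rw [show z * h * z⁻¹ = h by rw [← hz h, mul_inv_cancel_right]]
  have hxN : x ∈ N := Subgroup.le_normalizer (Subgroup.mem_zpowers x)
  have hcyc : Subgroup.zpowers (x * z) = N := by
    refine Subgroup.eq_of_le_of_card_ge (Subgroup.zpowers_le.2 (mul_mem hxN hzN)) ?_
    rw [Nat.card_zpowers, Commute.orderOf_mul_eq_mul_orderOf_of_coprime (hz x) (by rw [hx, hz3]; norm_num), hx, hz3, hN]
  have hNC : Subgroup.normalizer ((P : Subgroup H) : Set H) ≤ Subgroup.centralizer ((P : Subgroup H) : Set H) := by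
    rw [hPx, ← hNdef, ← hcyc]
    refine Subgroup.zpowers_le.2 (Subgroup.mem_centralizer_iff.2 fun y hy => ?_)
    obtain ⟨i, rfl⟩ := Subgroup.mem_zpowers_iff.1 hy
    exact ((Commute.refl x).zpow_left i).mul_right (hz (x ^ i))
  set φ := MonoidHom.transferSylow P hNC
  have hP37 : Nat.card P = 37 := by
    change Nat.card (P : Subgroup H) = 37
    rw [hPx, Nat.card_zpowers, hx]
  have hM : Nat.card φ.ker = 11880 := by
    have h4 := (MonoidHom.ker_transferSylow_isComplement' P hNC).card_mul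
    rw [hP37, hH] at h4
    change Nat.card φ.ker * 37 = 439560 at h4
    omega
  have hRM : ∀ e : Fr B, rad H e ≤ φ.ker := fun e g hg => by
    obtain ⟨n, hn⟩ := rad_isPGroup C 11 H e ⟨g, hg⟩
    have hn' : g ^ 11 ^ n = 1 := congrArg Subtype.val hn
    refine MonoidHom.mem_ker.2 (orderOf_eq_one_iff.1 ?_)
    refine Nat.eq_one_of_dvd_coprimes (a := 11 ^ n) (b := 37) (Nat.Coprime.pow_left n (by norm_num))
      (orderOf_dvd_of_pow_eq_one (by rw [← map_pow, hn', map_one])) ((orderOf_dvd_natCard _).trans hP37.dvd)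
  haveI := transitive C 11 H hbig
  have hcardR : ∀ e : Fr B, Nat.card (rad H e) = 11 := fun e => by
    have h1 := (stab_large C H hbig e.pt).2 (by rw [orbit_eq_univ H e.pt, Nat.card_univ, card_isoPts C])
    rw [card_stab C H e, ← hA e, hH, show q ^ 3 + 1 = 1332 by rw [hq]; norm_num] at h1
    omega
  have hmk : ∀ e : Fr B, ∃ Q : Sylow 11 φ.ker, (Q : Subgroup φ.ker) = (rad H e).subgroupOf φ.ker := fun e => by
    refine ⟨Sylow.ofCard ((rad H e).subgroupOf φ.ker) ?_, Sylow.coe_ofCard _ _⟩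
    rw [Nat.card_congr (Subgroup.subgroupOfEquivOfLe (hRM e)).toEquiv, hcardR, hM,
      show 11880 = 11 * 1080 from rfl, Nat.factorization_mul (by norm_num) (by norm_num), Finsupp.add_apply,
      Nat.Prime.factorization_self (by norm_num), Nat.factorization_eq_zero_of_not_dvd (by norm_num)]
    norm_num
  choose Q hQ using hmk
  choose fr hfr using exists_fr_pt C
  have hinj : Function.Injective fun z : IsoPts B => Q (fr z) := fun z z' e => by
    have e1 : (rad H (fr z)).subgroupOf φ.ker = (rad H (fr z')).subgroupOf φ.ker := by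
      rw [← hQ, ← hQ]; exact congrArg _ e
    obtain ⟨g, hg, hg1⟩ := (Subgroup.bot_or_exists_ne_one (rad H (fr z))).resolve_left (hne _)
    have hmem : (⟨g, hRM _ hg⟩ : φ.ker) ∈ (rad H (fr z')).subgroupOf φ.ker := e1 ▸ Subgroup.mem_subgroupOf.2 hg
    have h5 := rad_fix C H (fr z') (Subgroup.mem_subgroupOf.1 hmem) hg1 (x := (fr z).pt)
      (rad_le_stab C H (fr z) hg)
    rwa [hfr, hfr] at h5
  have h6 := Nat.card_le_card_of_injective _ hinj
  obtain ⟨f, -⟩ := exists_frame C
  have h7 := (Q f).card_dvd_index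
  have h8 := ((Q f : Subgroup φ.ker)).card_mul_index
  rw [hQ f, Nat.card_congr (Subgroup.subgroupOfEquivOfLe (hRM f)).toEquiv, hcardR, hM] at h8
  rw [hQ f] at h7
  have h9 := Nat.le_of_dvd (by omega) h7
  rw [card_isoPts C, hq] at h6
  omega

/-- A large subgroup is everything. -/
theorem eq_top_of_large (hq : 3 ≤ q) (h5 : q ≠ 5) (hbig : (q ^ 3 + 1) * (q ^ 2 - 1) ≤ Nat.card H) : H = ⊤ := by
  by_contra hH
  obtain ⟨p, hc⟩ := CharP.exists F
  haveI : Fact p.Prime := ⟨CharP.char_is_prime F p⟩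
  obtain ⟨f, -⟩ := exists_frame C
  by_cases h2 : (2 : F) = 0
  · haveI : Fact (Nat.Prime 2) := ⟨Nat.prime_two⟩
    haveI : CharP F 2 := CharTwo.of_one_ne_zero_of_two_eq_zero one_ne_zero h2
    have hR : ∀ e : Fr B, rad H e ≠ ⊥ := fun e he => regular_even C H 2 hbig hq he h2
    have hZ : ∀ e : Fr B, Z0 H e ≠ ⊥ := fun e => Z0_ne_bot_even C H 2 hbig h2 (hR e)
    obtain ⟨h8, hcard⟩ := even_case C H hq hbig hH hZ
    exact not_36936 C H h8 hbig hcard hZ
  · obtain ⟨e, he⟩ := odd_some_Z0_bot C H hq hbig hH h2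
    have hZ : ∀ e' : Fr B, Z0 H e' = ⊥ := Z0_bot_all C H hbig he
    by_cases hR : rad H f = ⊥
    · obtain ⟨h3, hcard, -⟩ := regular_odd C H p hbig h2 hq h5 hR
      exact not_224 C H h3 hbig h2 hcard
    · obtain ⟨h11, hcard, hA⟩ := abelian_odd C H p hbig h2 hq h5 hR hZ
      exact not_439560 C H h11 hbig h2 hcard hA fun e' he' => hR (rad_bot_all C p H e' hbig he' f)

/-- Proper subgroups have index at least `q ^ 3 + 1`. -/
theorem index_ge (hq : 3 ≤ q) (h5 : q ≠ 5) (hH : H ≠ ⊤) : q ^ 3 + 1 ≤ H.index := by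
  by_contra hlt
  push Not at hlt
  exact hH (eq_top_of_large C H hq h5 (large_of_index C H (by omega)))

end CfsgLib.KnownA.MinIndexU3
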