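import Cfsg.Agent.Lib.Classical.SUUnipotentBasic
import Cfsg.Agent.Lib.Classical.HermSimple
import Cfsg.Agent.Lib.Classical.HermCount

/-!
# Frames at isotropic points of a three-dimensional unitary space
-/

set_option autoImplicit false
set_option linter.unusedSectionVars false

open Module MulAction CfsgLib.Classical CfsgLib.Classical.SUUnipotent
open scoped LinearAlgebra.Projectivization

namespace CfsgLib.KnownA.MinIndexU3

variable {F : Type*} [Field F] [Fintype F] {V : Type*} [AddCommGroup V] [Module F V] [FiniteDimensional F V]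
  {σ : F →+* F} {B : V →ₛₗ[σ] V →ₗ[F] F}

/-- A three-dimensional unitary space over the field with `q ^ 2` elements. -/
structure U3 (B : V →ₛₗ[σ] V →ₗ[F] F) (q : ℕ) : Prop where
  herm : IsHermitian B
  sep : B.SeparatingRight
  dim : finrank F V = 3
  card : Fintype.card F = q ^ 2
  frob : ∀ x, σ x = x ^ q

/-- An isotropic `v`, a partner `s` and a unit vector `w` orthogonal to both. -/
structure Fr (B : V →ₛₗ[σ] V →ₗ[F] F) where
  v : V
  w : V
  s : V
  vv : B v v = 0
  ss : B s s = 0
  vs : B v s = 1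
  ww : B w w = 1
  vw : B v w = 0
  sw : B s w = 0

theorem Fr.v_ne_zero (f : Fr B) : f.v ≠ 0 := fun e => by simpa [e] using f.vs

theorem Fr.w_ne_zero (f : Fr B) : f.w ≠ 0 := fun e => by simpa [e] using f.ww

theorem Fr.s_ne_zero (f : Fr B) : f.s ≠ 0 := fun e => by simpa [e] using f.vs

variable {q : ℕ} (C : U3 B q)
include C

theorem sigma_ne_zero {x : F} (hx : x ≠ 0) : σ x ≠ 0 := fun e => hx (by rw [← C.herm.conj.invol x, e, map_zero])

theorem Fr.sv (f : Fr B) : B f.s f.v = 1 := by rw [← C.herm.symm, f.vs, map_one]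

theorem Fr.wv (f : Fr B) : B f.w f.v = 0 := C.herm.isRefl _ _ f.vw

theorem Fr.ws (f : Fr B) : B f.w f.s = 0 := C.herm.isRefl _ _ f.sw

/-- The coordinates in a frame. -/
theorem Fr.expand (f : Fr B) (x : V) : x = B f.s x • f.v + B f.w x • f.w + B f.v x • f.s := by
  have hli : LinearIndependent F ![f.v, f.w, f.s] := by
    refine Fintype.linearIndependent_iff.2 fun g hg => ?_
    rw [Fin.sum_univ_three] at hg
    have e1 := congrArg (B f.v) hg
    have e2 := congrArg (B f.w) hg
    have e3 := congrArg (B f.s) hg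
    simp only [map_add, map_smul, map_zero, smul_eq_mul, Matrix.cons_val_zero, Matrix.cons_val_one,
      Matrix.cons_val, f.vv, f.vw, f.vs, f.wv C, f.ww, f.ws C, f.sv C, f.sw, f.ss, mul_zero, mul_one,
      zero_add, add_zero] at e1 e2 e3
    intro i; fin_cases i <;> assumption
  let bs : Basis (Fin 3) F V :=
    basisOfLinearIndependentOfCardEqFinrank hli (by rw [Fintype.card_fin, C.dim])
  have hx := bs.sum_repr x
  simp only [bs, coe_basisOfLinearIndependentOfCardEqFinrank, Fin.sum_univ_three, Matrix.cons_val_zero,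
    Matrix.cons_val_one, Matrix.cons_val] at hx
  conv_rhs => rw [← hx]
  simp only [map_add, map_smul, smul_eq_mul, f.vv, f.vw, f.vs, f.wv C, f.ww, f.ws C, f.sv C, f.sw, f.ss, mul_zero,
    mul_one, zero_add, add_zero]
  exact hx.symm

theorem exists_fr {v : V} (hv : v ≠ 0) (hvv : B v v = 0) : ∃ f : Fr B, f.v = v := by
  have h := C.herm
  have htop : NondegOn B (⊤ : Submodule F V) := nondegOn_iff.2 fun x _ hx => C.sep x fun y => hx y trivial
  obtain ⟨s, -, hs, hvs⟩ := h.exists_partner htop trivial hv hvv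
  have hP := h.nondegOn_hyp hvv hvs
  have hd := hP.finrank_perp
  rw [h.finrank_hyp hvv hvs, C.dim] at hd
  obtain ⟨w, hw, hw1⟩ := h.exists_unit_in (nondegOn_perp C.sep hP) (by omega) (a := (1 : F)) (map_one σ)
  exact ⟨⟨v, w, s, hvv, hs, hvs, hw1, mem_perp_span.1 hw v (by simp), mem_perp_span.1 hw s (by simp)⟩, rfl⟩

theorem Fr.det_eq (f : Fr B) (g : isomGroup B) :
    idet B g = Matrix.det !![B f.s (g.1 f.v), B f.s (g.1 f.w), B f.s (g.1 f.s);
      B f.w (g.1 f.v), B f.w (g.1 f.w), B f.w (g.1 f.s);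
      B f.v (g.1 f.v), B f.v (g.1 f.w), B f.v (g.1 f.s)] := by
  classical
  have hli : LinearIndependent F ![f.v, f.w, f.s] := by
    refine linearIndependent_of_top_le_span_of_card_eq_finrank ?_ (by rw [Fintype.card_fin, C.dim])
    intro x _
    rw [f.expand C x]
    refine add_mem (add_mem (Submodule.smul_mem _ _ (Submodule.subset_span ?_))
      (Submodule.smul_mem _ _ (Submodule.subset_span ?_))) (Submodule.smul_mem _ _ (Submodule.subset_span ?_))
    · exact ⟨0, rfl⟩
    · exact ⟨1, rfl⟩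
    · exact ⟨2, rfl⟩
  let bs : Basis (Fin 3) F V :=
    basisOfLinearIndependentOfCardEqFinrank hli (by rw [Fintype.card_fin, C.dim])
  change LinearMap.det (g.1 : V →ₗ[F] V) = _
  rw [← LinearMap.det_toMatrix bs]
  congr 1
  have hbs : ∀ i, bs i = ![f.v, f.w, f.s] i := fun i => by simp [bs]
  have hrepr : ∀ x, bs.equivFun x = ![B f.s x, B f.w x, B f.v x] := fun x => by
    rw [← bs.equivFun.eq_symm_apply, bs.equivFun_symm_apply, Fin.sum_univ_three, hbs, hbs, hbs]
    exact f.expand C x
  ext i j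
  rw [LinearMap.toMatrix_apply, ← bs.equivFun_apply, hbs, hrepr]
  fin_cases i <;> fin_cases j <;> rfl

/-- An element scaling the isotropic vector of a frame. -/
theorem Fr.shape (f : Fr B) {g : isomGroup B} {α : F} (hg : g.1 f.v = α • f.v) (hd : idet B g = 1) :
    α ≠ 0 ∧ B f.v (g.1 f.s) = (σ α)⁻¹ ∧ B f.v (g.1 f.w) = 0 ∧
      B f.w (g.1 f.w) = σ α / α := by
  have hα : α ≠ 0 := fun e => f.v_ne_zero (g.1.injective (by rw [hg, e, zero_smul, map_zero]))
  have hσα := sigma_ne_zero C hα
  have e1 : σ α * B f.v (g.1 f.s) = 1 := by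
    have := g.2 f.v f.s
    rw [hg, map_smulₛₗ, LinearMap.smul_apply, smul_eq_mul, f.vs] at this
    exact this
  have e2 : B f.v (g.1 f.w) = 0 := by
    have := g.2 f.v f.w
    rw [hg, map_smulₛₗ, LinearMap.smul_apply, smul_eq_mul, f.vw, mul_eq_zero] at this
    exact this.resolve_left hσα
  have e3 : B f.w (g.1 f.w) = σ α / α := by
    have hh : B f.v (g.1 f.s) = (σ α)⁻¹ := eq_inv_of_mul_eq_one_right e1
    rw [f.det_eq C, Matrix.det_fin_three] at hd
    simp only [Matrix.of_apply, Matrix.cons_val', Matrix.cons_val_zero, Matrix.cons_val_one, Matrix.cons_val,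
      Matrix.cons_val_fin_one, hg, map_smul, f.sv C, f.wv C, f.vv, e2, hh, smul_eq_mul, mul_one, mul_zero,
      zero_mul, sub_zero, add_zero] at hd
    field_simp at hd ⊢
    linear_combination hd
  exact ⟨hα, eq_inv_of_mul_eq_one_right e1, e2, e3⟩

/-- An element fixing the isotropic vector of a frame is an Eichler element. -/
theorem Fr.isE_of_fix (f : Fr B) {g : isomGroup B} (hg : g.1 f.v = f.v) (hd : idet B g = 1) :
    ∃ t c : F, IsE g f.v (t • f.w) c := by
  have hg' : g.1 f.v = (1 : F) • f.v := by rw [hg, one_smul]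
  obtain ⟨-, e1, e2, e3⟩ := f.shape C hg' hd
  simp only [map_one, inv_one, div_one] at e1 e3
  set t := B f.w (g.1 f.s)
  set c := B f.s (g.1 f.s)
  have hη : B f.s (g.1 f.w) = -σ t := by
    have e4 : B (g.1 f.s) (g.1 f.w) = 0 := by rw [isomGroup_apply, f.sw]
    rw [f.expand C (g.1 f.s), e1] at e4
    simp only [map_add, map_smulₛₗ, LinearMap.add_apply, LinearMap.smul_apply, smul_eq_mul, e2, e3, map_one,
      mul_zero, one_mul, mul_one, zero_add] at e4
    linear_combination e4
  refine ⟨t, c, fun y => ?_⟩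
  conv_lhs => rw [f.expand C y, map_add, map_add, map_smul, map_smul, map_smul, hg,
    f.expand C (g.1 f.w), f.expand C (g.1 f.s), e1, e2, e3, hη]
  conv_rhs => rw [f.expand C y]
  simp only [map_add, map_smul, map_smulₛₗ, LinearMap.add_apply, LinearMap.smul_apply, smul_eq_mul, f.vv, f.vw,
    f.vs, f.wv C, f.ww, f.ws C, f.sv C, f.sw, f.ss, mul_zero, mul_one, zero_add, add_zero]
  module

end CfsgLib.KnownA.MinIndexU3
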