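import Cfsg.Agent.Lib.KnownA.MinIndexU3.Transvections
import Cfsg.Agent.Lib.KnownA.MinIndexU3.PGLTypes

/-!
# An involution fixing an isotropic point and its line
-/

set_option autoImplicit false
set_option linter.unusedSectionVars false
set_option linter.style.haveILetI false

open Module MulAction CfsgLib.Classical CfsgLib.Classical.SUUnipotent Matrix

namespace CfsgLib.KnownA.MinIndexU3

variable {F : Type*} [Field F] [Fintype F] {V : Type*} [AddCommGroup V] [Module F V] [FiniteDimensional F V]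
  [Finite V] {σ : F →+* F} {B : V →ₛₗ[σ] V →ₗ[F] F} {q : ℕ} (C : U3 B q) (H : Subgroup (sIsom B))
include C

/-- A frame diagonalising an involution. -/
theorem exists_adapted (h2 : (2 : F) ≠ 0) (f : Fr B) {j : H} (hj : j * j = 1) (hjv : j.1.1.1 f.v = -f.v) :
    ∃ e : Fr B, e.v = f.v ∧ j.1.1.1 e.v = -e.v ∧ j.1.1.1 e.w = e.w ∧ j.1.1.1 e.s = -e.s := by
  have h := C.herm
  have hjv' : j.1.1.1 f.v = (-1 : F) • f.v := by rw [hjv]; module
  obtain ⟨-, e1, e2, e3⟩ := f.shape C hjv' (det_eq_one j.1)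
  simp only [map_neg, map_one, inv_neg, inv_one, neg_div_neg_eq, div_one] at e1 e3
  have hjj : ∀ x, j.1.1.1 (j.1.1.1 x) = x := fun x => congrArg (fun k : H => k.1.1.1 x) hj
  have hh : (2⁻¹ : F) * 2 = 1 := inv_mul_cancel₀ h2
  have hσh : σ (2⁻¹ : F) = 2⁻¹ := by rw [map_inv₀, map_ofNat]
  set s₁ := (2⁻¹ : F) • (f.s - j.1.1.1 f.s) with hs₁
  have hs₁j : j.1.1.1 s₁ = -s₁ := by
    simp only [hs₁, map_smul, map_sub, hjj]; module
  have hvs₁ : B f.v s₁ = 1 := by
    simp only [hs₁, map_smul, map_sub, f.vs, e1, smul_eq_mul]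
    linear_combination hh
  obtain ⟨c, hc⟩ := h.conj.exists_trace_eq (a := -B s₁ s₁) (by rw [map_neg, h.self_fixed])
  set w₁ := (2⁻¹ : F) • (f.w + j.1.1.1 f.w) with hw₁
  have hw₁j : j.1.1.1 w₁ = w₁ := by
    simp only [hw₁, map_smul, map_add, hjj]; module
  set s₂ := s₁ + c • f.v with hs₂
  have hs₂j : j.1.1.1 s₂ = -s₂ := by
    simp only [hs₂, map_add, map_smul, hs₁j, hjv]; module
  have hcross : ∀ x y, j.1.1.1 x = -x → j.1.1.1 y = y → B x y = 0 := by
    intro x y hx hy
    have := j.1.1.2 x y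
    rw [hx, hy, map_neg, LinearMap.neg_apply] at this
    have : (2 : F) * B x y = 0 := by linear_combination -this
    exact (mul_eq_zero.1 this).resolve_left h2
  have hww : B w₁ w₁ = 1 := by
    have hx := f.expand C (j.1.1.1 f.w)
    rw [e2, e3, zero_smul, add_zero, one_smul] at hx
    have hw₁' : w₁ = (2⁻¹ * B f.s (j.1.1.1 f.w)) • f.v + f.w := by
      rw [hw₁]
      conv_lhs => rw [hx]
      match_scalars <;> (try linear_combination hh) <;> ring
    rw [hw₁']
    simp [map_add, map_smulₛₗ, f.vv, f.vw, f.wv C, f.ww]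
  refine ⟨⟨f.v, w₁, s₂, f.vv, ?_, ?_, hww, hcross _ _ hjv hw₁j, hcross _ _ hs₂j hw₁j⟩, rfl, hjv, hw₁j, hs₂j⟩
  · rw [hs₂, h.add_self, h.smul_self c f.v, f.vv, map_smul (B s₁) c f.v, smul_eq_mul, ← h.symm f.v s₁, hvs₁, map_one, mul_one, hc]
    ring
  · rw [hs₂, map_add, map_smul (B f.v) c f.v, f.vv, smul_zero, add_zero, hvs₁]

/-- The points fixed by an adapted involution lie on the line. -/
theorem fix_line (h2 : (2 : F) ≠ 0) {e : Fr B} {j : H} (h1 : j.1.1.1 e.v = -e.v) (hw : j.1.1.1 e.w = e.w)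
    (hs : j.1.1.1 e.s = -e.s) {u : V} (hu : u ≠ 0) (huu : B u u = 0) :
    j • isoPt B hu huu = isoPt B hu huu ↔ B e.w u = 0 := by
  constructor
  · intro hfix
    obtain ⟨a, ha⟩ := (smul_pt_iff C j.1 hu huu hu huu).1 hfix
    change j.1.1.1 u = a • u at ha
    by_contra hb
    rw [e.expand C u, map_add, map_add, map_smul, map_smul, map_smul, h1, hw, hs] at ha
    have e1 := congrArg (B e.w) ha
    have e2 := congrArg (B e.v) ha
    have e3 := congrArg (B e.s) ha
    simp only [map_add, map_smul, map_neg, smul_eq_mul, e.ww, e.wv C, e.ws C, e.vv, e.vw, e.vs, e.sv C, e.sw, e.ss,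
      mul_zero, mul_one, add_zero, zero_add, neg_zero] at e1 e2 e3
    have ha1 : a = 1 := mul_right_cancel₀ hb (e1.symm.trans (one_mul _).symm)
    rw [ha1] at e2 e3
    have f2 : B e.v u = 0 := (mul_eq_zero.1 (show (2 : F) * B e.v u = 0 by linear_combination -e2)).resolve_left h2
    have f3 : B e.s u = 0 := (mul_eq_zero.1 (show (2 : F) * B e.s u = 0 by linear_combination -e3)).resolve_left h2
    rw [e.expand C u, f2, f3, zero_smul, zero_smul, add_zero, zero_add] at huu
    simp [map_smulₛₗ, e.ww] at huu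
    exact hb huu
  · intro hb
    refine (smul_pt_iff C j.1 hu huu hu huu).2 ⟨-1, ?_⟩
    change j.1.1.1 u = (-1 : F) • u
    rw [e.expand C u, hb, zero_smul, add_zero, map_add, map_smul, map_smul, h1, hs]
    module

/-- An adapted involution fixes `q + 1` points. -/
theorem card_fix (h2 : (2 : F) ≠ 0) {e : Fr B} {j : H} (h1 : j.1.1.1 e.v = -e.v) (hw : j.1.1.1 e.w = e.w)
    (hs : j.1.1.1 e.s = -e.s) : Nat.card (fixedBy (IsoPts B) j) = q + 1 := by
  classical
  let S := {a : F // a + σ a = 0}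
  have hS : Nat.card S = q := by
    obtain ⟨c, hc0, hc⟩ := C.herm.conj.exists_trace_zero
    have hσc : σ c = -c := eq_neg_of_add_eq_zero_right hc
    rw [← natCard_fixedField C]
    refine Nat.card_congr
      { toFun := fun a => ⟨a.1 / c, mem_fixedField.2 (by
          rw [map_div₀, hσc, eq_neg_of_add_eq_zero_right a.2, neg_div_neg_eq])⟩
        invFun := fun x => ⟨x.1 * c, by rw [map_mul, mem_fixedField.1 x.2, hσc]; ring⟩
        left_inv := fun a => Subtype.ext (div_mul_cancel₀ _ hc0)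
        right_inv := fun x => Subtype.ext (mul_div_cancel_right₀ _ hc0) }
  have hu0 : ∀ a : S, a.1 • e.v + e.s ≠ 0 := fun a e0 => by
    have := congrArg (B e.v) e0
    simp [e.vv, e.vs] at this
  have huu : ∀ a : S, B (a.1 • e.v + e.s) (a.1 • e.v + e.s) = 0 := fun a => by
    simp [map_add, map_smulₛₗ, e.vv, e.ss, e.vs, e.sv C]
    linear_combination a.2
  have hmem : ∀ {u : V} (hu : u ≠ 0) (h0 : B u u = 0), B e.w u = 0 → isoPt B hu h0 ∈ fixedBy (IsoPts B) j :=
    fun hu h0 hb => (fix_line C H h2 h1 hw hs hu h0).2 hb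
  let Φ : Option S → fixedBy (IsoPts B) j := fun o =>
    match o with
    | none => ⟨e.pt, hmem e.v_ne_zero e.vv (e.wv C)⟩
    | some a => ⟨isoPt B (hu0 a) (huu a), hmem (hu0 a) (huu a) (by simp [e.wv C, e.ws C])⟩
  rw [← Nat.card_eq_of_bijective Φ ⟨?_, ?_⟩, Finite.card_option, hS]
  · intro o o' he
    have he' := congrArg (fun x : fixedBy (IsoPts B) j => x.1.1) he
    rcases o with - | a <;> rcases o' with - | b
    · rfl
    · obtain ⟨t, ht⟩ := (Projectivization.mk_eq_mk_iff' F _ _ e.v_ne_zero (hu0 b)).1 he'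
      have := congrArg (B e.v) ht
      simp [e.vv, e.vs] at this
      subst this
      exact absurd (by simpa using ht.symm) e.v_ne_zero
    · obtain ⟨t, ht⟩ := (Projectivization.mk_eq_mk_iff' F _ _ (hu0 a) e.v_ne_zero).1 he'
      have := congrArg (B e.v) ht
      simp [e.vv, e.vs] at this
    · obtain ⟨t, ht⟩ := (Projectivization.mk_eq_mk_iff' F _ _ (hu0 a) (hu0 b)).1 he'
      have h3 := congrArg (B e.v) ht
      simp [e.vv, e.vs] at h3
      subst h3
      have h4 := congrArg (B e.s) ht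
      simp [e.sv C, e.ss] at h4
      rw [Subtype.ext h4]
  · rintro ⟨x, hx⟩
    obtain ⟨u, hu, h0, rfl⟩ := isoPt_surjective x
    have hb := (fix_line C H h2 h1 hw hs hu h0).1 hx
    have hexp := e.expand C u
    rw [hb, zero_smul, add_zero] at hexp
    by_cases hc : B e.v u = 0
    · refine ⟨none, Subtype.ext (Subtype.ext ?_)⟩
      change Projectivization.mk F e.v _ = Projectivization.mk F u _
      rw [eq_comm, Projectivization.mk_eq_mk_iff']
      exact ⟨B e.s u, by conv_rhs => rw [hexp, hc, zero_smul, add_zero]⟩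
    · have ha : B e.s u / B e.v u + σ (B e.s u / B e.v u) = 0 := by
        rw [hexp] at h0
        simp [map_add, map_smulₛₗ, e.vv, e.ss, e.vs, e.sv C] at h0
        have hσ := sigma_ne_zero C hc
        rw [map_div₀]
        field_simp
        linear_combination h0
      refine ⟨some ⟨_, ha⟩, Subtype.ext (Subtype.ext ?_)⟩
      change Projectivization.mk F ((B e.s u / B e.v u) • e.v + e.s) _ = Projectivization.mk F u _
      rw [eq_comm, Projectivization.mk_eq_mk_iff']
      exact ⟨B e.v u, by conv_rhs => rw [hexp]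
                         rw [smul_add, smul_smul, mul_div_cancel₀ _ hc]⟩

variable (p : ℕ) [Fact p.Prime] [CharP F p] (h2 : (2 : F) ≠ 0)
include h2 p

theorem p_odd : p ≠ 2 := fun e => h2 (by
  have := CharP.cast_eq_zero F p
  rw [e] at this
  exact_mod_cast this)

theorem rad_odd (f : Fr B) : Odd (Nat.card (rad H f)) := by
  obtain ⟨n, hn⟩ := IsPGroup.iff_card.1 (rad_isPGroup C p H f)
  rw [hn]
  exact ((Fact.out : p.Prime).odd_of_ne_two (p_odd C p h2)).pow

/-- An involution at a point with multiplier `-1`. -/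
theorem exists_involution (f : Fr B) (hA : (-1 : Fˣ) ∈ mults C H f) :
    ∃ j : H, j * j = 1 ∧ j.1.1.1 f.v = -f.v := by
  obtain ⟨g, hg⟩ := hA
  set r := Nat.card (rad H f)
  have hv : g.1.1.1.1 f.v = -f.v := by rw [chi_spec C H f g, hg]; simp
  have hgg : g.1 * g.1 ∈ rad H f := by
    change g.1.1.1.1 (g.1.1.1.1 f.v) = f.v
    rw [hv, map_neg, hv, neg_neg]
  refine ⟨g.1 ^ r, ?_, ?_⟩
  · rw [← (Commute.refl g.1).mul_pow]
    have := pow_card_eq_one' (G := rad H f) (x := ⟨_, hgg⟩)
    exact congrArg Subtype.val this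
  · have := chi_spec C H f (g ^ r)
    rw [map_pow, hg, (rad_odd C H p h2 f).neg_one_pow] at this
    simpa using this

/-- Two involutions at a point with multiplier `-1` differ by conjugation in the radical. -/
theorem involution_conj (f : Fr B) {j k : H} (hj : j * j = 1) (hk : k * k = 1) (hjv : j.1.1.1 f.v = -f.v)
    (hkv : k.1.1.1 f.v = -f.v) : ∃ s ∈ rad H f, s⁻¹ * j * s = k := by
  set r := j * k with hr
  have hrm : r ∈ rad H f := by
    change j.1.1.1 (k.1.1.1 f.v) = f.v
    rw [hkv, map_neg, hjv, neg_neg]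
  obtain ⟨i, hi⟩ := rad_odd C H p h2 f
  set s := r ^ (i + 1) with hs
  have hji : j⁻¹ = j := inv_eq_of_mul_eq_one_right hj
  have hki : k⁻¹ = k := inv_eq_of_mul_eq_one_right hk
  have hjrj : j * r * j = r⁻¹ := by
    rw [hr, _root_.mul_inv_rev, hji, hki, ← mul_assoc, hj, one_mul]
  have hjsj : j * s * j = s⁻¹ := by
    have : ∀ n : ℕ, j * r ^ n * j = (r⁻¹) ^ n := fun n =>
      calc j * r ^ n * j = j * r ^ n * j⁻¹ := by rw [hji]
        _ = (j * r * j⁻¹) ^ n := conj_pow.symm
        _ = (r⁻¹) ^ n := by rw [hji, hjrj]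
    rw [hs, this, inv_pow]
  refine ⟨s, pow_mem hrm _, ?_⟩
  rw [← hjsj]
  have h3 : r ^ Nat.card (rad H f) = 1 := congrArg Subtype.val (pow_card_eq_one' (G := rad H f) (x := ⟨r, hrm⟩))
  rw [mul_assoc (j * s) j j, hj, mul_one, mul_assoc, hs, ← pow_add, show i + 1 + (i + 1) = Nat.card (rad H f) + 1 by omega,
    pow_succ, h3, one_mul, hr, ← mul_assoc, hj, one_mul]

variable (hbig : (q ^ 3 + 1) * (q ^ 2 - 1) ≤ Nat.card H)
include hbig

theorem centralizer_facts {e : Fr B} {j : H} (hj : j * j = 1) (h1 : j.1.1.1 e.v = -e.v) (hw : j.1.1.1 e.w = e.w)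
    (hs : j.1.1.1 e.s = -e.s) (hZ : Z0 H e = ⊥) :
    Nat.card (Subgroup.centralizer ({j} : Set H)) = (q + 1) * Nat.card (mults C H e) ∧
      orbit (Subgroup.centralizer ({j} : Set H)) e.pt = fixedBy (IsoPts B) j := by
  classical
  haveI := transitive C p H hbig
  set Cj := Subgroup.centralizer ({j} : Set H)
  have hjfix : j • e.pt = e.pt := (mem_stab_iff C H e).2 ⟨-1, by rw [h1]; module⟩
  have hcomm : ∀ c : Cj, (c : H) * j = j * c := fun c => (Subgroup.mem_centralizer_singleton_iff.1 c.2)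
  have horb : orbit Cj e.pt = fixedBy (IsoPts B) j := by
    ext x
    constructor
    · rintro ⟨c, rfl⟩
      change j • (c : H) • e.pt = (c : H) • e.pt
      rw [← mul_smul, ← hcomm, mul_smul, hjfix]
    · intro hx
      obtain ⟨h, rfl⟩ := exists_smul_eq H e.pt x
      have hj' : (h⁻¹ * j * h) • e.pt = e.pt := by
        rw [mul_smul, mul_smul, show j • h • e.pt = h • e.pt from hx, inv_smul_smul]
      set j' := h⁻¹ * j * h with hj'def
      have hj'2 : j' * j' = 1 := by
        rw [hj'def, show h⁻¹ * j * h * (h⁻¹ * j * h) = h⁻¹ * (j * j) * h by group, hj]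
        group
      set α := chi C H e ⟨j', hj'⟩
      have hα : α * α = 1 := by
        rw [← map_mul]
        exact (congrArg (chi C H e) (Subtype.ext hj'2)).trans (map_one _)
      have hα' : α = -1 := by
        have h3 : ((α : F) - 1) * ((α : F) + 1) = 0 := by
          have := congrArg Units.val hα
          rw [Units.val_mul, Units.val_one] at this
          linear_combination this
        rcases mul_eq_zero.1 h3 with e0 | e0
        · exfalso
          have hv := chi_spec C H e ⟨j', hj'⟩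
          rw [show (chi C H e ⟨j', hj'⟩ : F) = 1 from sub_eq_zero.1 e0, one_smul] at hv
          obtain ⟨i, hi⟩ := rad_odd C H p h2 e
          have h4 : j' ^ Nat.card (rad H e) = 1 :=
            congrArg Subtype.val (pow_card_eq_one' (G := rad H e) (x := ⟨j', hv⟩))
          rw [hi, pow_succ, pow_mul, pow_two, hj'2, one_pow, one_mul, hj'def] at h4
          have hj1 : j = 1 := by
            have : h * (h⁻¹ * j * h) * h⁻¹ = j := by group
            rw [h4, mul_one, mul_inv_cancel] at this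
            exact this.symm
          rw [hj1] at h1
          have h5 : e.v = -e.v := h1
          have : (2 : F) • e.v = 0 := by rw [two_smul]; nth_rw 2 [h5]; rw [add_neg_cancel]
          exact e.v_ne_zero ((smul_eq_zero.1 this).resolve_left h2)
        · exact Units.ext (by rw [Units.val_neg, Units.val_one]; linear_combination e0)
      obtain ⟨s, hsr, hsj⟩ := involution_conj C H p h2 e hj hj'2 h1 (by
        have := chi_spec C H e ⟨j', hj'⟩
        rw [show chi C H e ⟨j', hj'⟩ = -1 from hα'] at this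
        simpa using this)
      refine ⟨⟨h * s⁻¹, Subgroup.mem_centralizer_singleton_iff.2 ?_⟩, ?_⟩
      · rw [hj'def] at hsj
        calc h * s⁻¹ * j = h * (s⁻¹ * j * s) * s⁻¹ := by group
          _ = j * (h * s⁻¹) := by rw [hsj]; group
      · change (h * s⁻¹) • e.pt = h • e.pt
        rw [mul_smul, inv_smul_eq_iff.2 (show e.pt = s • e.pt from (rad_le_stab C H e hsr).symm)]
  refine ⟨?_, horb⟩
  have h3 := (stabilizer Cj e.pt).card_mul_index
  rw [MulAction.index_stabilizer, horb, ← Nat.card_coe_set_eq, card_fix C H h2 h1 hw hs] at h3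
  rw [← h3, mul_comm]
  congr 1
  let ψ : stabilizer Cj e.pt →* mults C H e :=
    ((chi C H e).comp
      { toFun := fun c => (⟨(c.1 : H), c.2⟩ : stabilizer H e.pt)
        map_one' := rfl
        map_mul' := fun _ _ => rfl }).codRestrict _ fun c => ⟨_, rfl⟩
  refine Nat.card_eq_of_bijective ψ ⟨?_, ?_⟩
  · refine (injective_iff_map_eq_one ψ).2 fun c hc => ?_
    have hc' : chi C H e ⟨(c.1 : H), c.2⟩ = 1 := congrArg Subtype.val hc
    have hv := chi_spec C H e ⟨(c.1 : H), c.2⟩
    rw [hc', Units.val_one, one_smul] at hv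
    obtain ⟨t, d, hE⟩ := rad_isE C H e ⟨(c.1 : H), hv⟩
    change IsE (c.1 : H).1.1 _ _ _ at hE
    have e1 : (c.1 : H).1.1.1 (j.1.1.1 e.s) = j.1.1.1 ((c.1 : H).1.1.1 e.s) :=
      congrArg (fun k : H => k.1.1.1 e.s) (hcomm c.1)
    rw [hs, map_neg, isE_apply_s C e hE, map_add, map_add, map_smul, map_smul, hs, hw, h1] at e1
    have e2 := congrArg (B e.w) e1
    simp [e.ws C, e.ww, e.wv C] at e2
    have ht : t = 0 := (mul_eq_zero.1 (show (2 : F) * t = 0 by linear_combination -e2)).resolve_left h2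
    rw [ht, zero_smul] at hE
    have hd : d ∈ Z0 H e := ⟨_, ⟨(c.1 : H).1, (c.1 : H).2, rfl⟩, hE⟩
    rw [hZ, AddSubgroup.mem_bot] at hd
    rw [hd] at hE
    refine Subtype.ext (Subtype.ext (Subtype.ext (Subtype.ext (hE.unique fun y => ?_))))
    simp
  · rintro ⟨α, g, rfl⟩
    have hg := chi_spec C H e g
    set k := g.1 * j * g.1⁻¹ with hkdef
    have hk : k * k = 1 := by
      rw [hkdef, show g.1 * j * g.1⁻¹ * (g.1 * j * g.1⁻¹) = g.1 * (j * j) * g.1⁻¹ by group, hj]
      group
    have hkv : k.1.1.1 e.v = -e.v := by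
      have hinv : (g.1⁻¹ : H).1.1.1 e.v = ((chi C H e g)⁻¹ : Fˣ) • e.v := by
        have := chi_spec C H e g⁻¹
        rw [map_inv] at this
        simpa [Units.smul_def] using this
      change g.1.1.1.1 (j.1.1.1 ((g.1⁻¹ : H).1.1.1 e.v)) = _
      rw [hinv, Units.smul_def, map_smul, h1, map_smul, map_neg, hg, smul_neg, smul_smul,
        Units.inv_mul, one_smul]
    obtain ⟨s, hsr, hsj⟩ := involution_conj C H p h2 e hj hk h1 hkv
    refine ⟨⟨⟨s * g.1, Subgroup.mem_centralizer_singleton_iff.2 ?_⟩, ?_⟩, Subtype.ext ?_⟩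
    · rw [hkdef] at hsj
      calc s * g.1 * j = s * (g.1 * j * g.1⁻¹) * g.1 := by group
        _ = j * (s * g.1) := by rw [← hsj]; group
    · change (s * g.1) • e.pt = e.pt
      rw [mul_smul, g.2, rad_le_stab C H e hsr]
    · change chi C H e (⟨s, rad_le_stab C H e hsr⟩ * g) = _
      rw [map_mul, show chi C H e ⟨s, rad_le_stab C H e hsr⟩ = 1 from Units.ext (by
        have := chi_spec C H e ⟨s, rad_le_stab C H e hsr⟩
        refine smul_left_injective F e.v_ne_zero (this.symm.trans ?_)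
        rw [Units.val_one]
        exact hsr.trans (one_smul F e.v).symm), one_mul]

omit hbig in
/-- The two by two matrix of an element on the line. -/
def lineMat {H : Subgroup (sIsom B)} (e : Fr B) (g : H) : Matrix (Fin 2) (Fin 2) F :=
  !![B e.s (g.1.1.1 e.v), B e.s (g.1.1.1 e.s); B e.v (g.1.1.1 e.v), B e.v (g.1.1.1 e.s)]

/-- The image on the line of the centraliser of the involution. -/
theorem line_orders {e : Fr B} {j : H} (hj : j * j = 1) (h1 : j.1.1.1 e.v = -e.v) (hw : j.1.1.1 e.w = e.w)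
    (hs : j.1.1.1 e.s = -e.s) (hZ : Z0 H e = ⊥) (hA : ¬ p ∣ Nat.card (mults C H e)) :
    ∃ k a : ℕ, 0 < k ∧ k ∣ q + 1 ∧ Nat.card (mults C H e) = k * a ∧
      (a ≤ 2 ∨ (q + 1) * a = 12 ∨ (q + 1) * a = 24 ∨ (q + 1) * a = 60) := by
  classical
  obtain ⟨hcard, horb⟩ := centralizer_facts C H p h2 hbig hj h1 hw hs hZ
  set Cj := Subgroup.centralizer ({j} : Set H)
  have hjfix : j • e.pt = e.pt := (mem_stab_iff C H e).2 ⟨-1, by rw [h1]; module⟩
  -- the plane is invariant
  have hcomm : ∀ c : Cj, (c : H) * j = j * c := fun c => (Subgroup.mem_centralizer_singleton_iff.1 c.2)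
  have hplane : ∀ c : Cj, ∀ x, j.1.1.1 x = -x → B e.w ((c : H).1.1.1 x) = 0 := fun c x hx => by
    have h3 : j.1.1.1 ((c : H).1.1.1 x) = -((c : H).1.1.1 x) := by
      rw [show j.1.1.1 ((c : H).1.1.1 x) = (c : H).1.1.1 (j.1.1.1 x) from
        (congrArg (fun k : H => k.1.1.1 x) (hcomm c)).symm, hx, map_neg]
    have := j.1.1.2 e.w ((c : H).1.1.1 x)
    rw [hw, h3, map_neg] at this
    exact (mul_eq_zero.1 (show (2 : F) * B e.w ((c : H).1.1.1 x) = 0 by linear_combination -this)).resolve_left h2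
  have hmul : ∀ a b : Cj, lineMat e (a * b : Cj).1 = lineMat e a.1 * lineMat e b.1 := by
    intro a b
    have key : ∀ (u x : V), j.1.1.1 x = -x → B u ((a : H).1.1.1 ((b : H).1.1.1 x)) =
        B e.s ((b : H).1.1.1 x) * B u ((a : H).1.1.1 e.v) + B e.v ((b : H).1.1.1 x) * B u ((a : H).1.1.1 e.s) := by
      intro u x hx
      conv_lhs => rw [e.expand C ((b : H).1.1.1 x), hplane b x hx, zero_smul, add_zero]
      simp only [map_add, map_smul, smul_eq_mul]
    ext i k
    fin_cases i <;> fin_cases k <;>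
      simp [lineMat, Matrix.mul_apply, Fin.sum_univ_two, key _ _ h1, key _ _ hs, -mul_eq_mul_left_iff, -mul_eq_mul_right_iff] <;> ring
  let φ₀ : Cj →* Matrix (Fin 2) (Fin 2) F :=
    { toFun := fun c => lineMat e c.1
      map_one' := by
        ext i k
        fin_cases i <;> fin_cases k <;> simp [lineMat, e.sv C, e.ss, e.vv, e.vs]
      map_mul' := hmul }
  let φ : Cj →* ProjGenLinGroup (Fin 2) F := ProjGenLinGroup.mk.comp φ₀.toHomUnits
  haveI := transitive C p H hbig
  -- the kernel
  have hker : ∀ c : Cj, φ c = 1 → ∃ l : F, l * σ l = 1 ∧ (c : H).1.1.1 e.v = l • e.v ∧ (c : H).1.1.1 e.s = l • e.s := by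
    intro c hc
    have hc' : (φ₀.toHomUnits c : GL (Fin 2) F) ∈ Subgroup.center (GL (Fin 2) F) :=
      (QuotientGroup.eq_one_iff _).1 hc
    obtain ⟨l, hl⟩ := Matrix.GeneralLinearGroup.center_eq_range_scalar (n := Fin 2) (R := F) ▸ hc'
    have hl' : ∀ i k, lineMat e c.1 i k = (Matrix.scalar (Fin 2) (l : F)) i k := fun i k => by
      have := congrArg (fun g : GL (Fin 2) F => (g : Matrix (Fin 2) (Fin 2) F) i k) hl
      exact this.symm
    have a00 : B e.s ((c : H).1.1.1 e.v) = l := by simpa [lineMat] using hl' 0 0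
    have a01 : B e.s ((c : H).1.1.1 e.s) = 0 := by simpa [lineMat] using hl' 0 1
    have a10 : B e.v ((c : H).1.1.1 e.v) = 0 := by simpa [lineMat] using hl' 1 0
    have a11 : B e.v ((c : H).1.1.1 e.s) = l := by simpa [lineMat] using hl' 1 1
    have hv : (c : H).1.1.1 e.v = (l : F) • e.v := by
      conv_lhs => rw [e.expand C ((c : H).1.1.1 e.v), a00, a10, hplane c _ h1]
      simp
    have hs' : (c : H).1.1.1 e.s = (l : F) • e.s := by
      conv_lhs => rw [e.expand C ((c : H).1.1.1 e.s), a01, a11, hplane c _ hs]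
      simp
    refine ⟨l, ?_, hv, hs'⟩
    have := (c : H).1.1.2 e.v e.s
    rw [hv, hs'] at this
    simp [map_smulₛₗ, e.vs] at this
    linear_combination this
  set S := stabilizer Cj e.pt
  have hkerS : ∀ c : Cj, φ c = 1 → c ∈ S := fun c hc => by
    obtain ⟨l, -, hv, -⟩ := hker c hc
    exact (mem_stab_iff C H e).2 ⟨l, hv⟩
  have hcS : Nat.card S = Nat.card (mults C H e) := by
    have h3 := S.card_mul_index
    rw [MulAction.index_stabilizer, horb, ← Nat.card_coe_set_eq, card_fix C H h2 h1 hw hs, hcard, mul_comm (q + 1)] at h3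
    exact Nat.eq_of_mul_eq_mul_right (Nat.succ_pos q) h3
  set k := Nat.card φ.ker with hk
  -- order of the kernel
  have hkq : k ∣ q + 1 := by
    rw [← (frob_cards C.card C.frob C.herm.conj).2]
    let ι : φ.ker →* Fˣ := (chi C H e).comp
      { toFun := fun c => (⟨(c.1 : H), hkerS c.1 c.2⟩ : stabilizer H e.pt)
        map_one' := rfl
        map_mul' := fun _ _ => rfl }
    have hι : ∀ c : φ.ker, (ι c : F) • e.v = (c.1 : H).1.1.1 e.v := fun c =>
      (chi_spec C H e ⟨(c.1 : H), hkerS c.1 c.2⟩).symm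
    refine Subgroup.card_dvd_of_injective (ι.codRestrict _ fun c => ?_) fun a b hab => ?_
    · obtain ⟨l, hl, hv, -⟩ := hker c.1 c.2
      have : (ι c : F) = l := smul_left_injective F e.v_ne_zero ((hι c).trans hv)
      refine MonoidHom.mem_ker.2 (Units.ext ?_)
      rw [CfsgLib.Classical.normHom_apply, this]
      exact hl
    · have hab' : ι a = ι b := congrArg (fun x : (normHom σ).ker => (x : Fˣ)) hab
      obtain ⟨la, -, hav, has⟩ := hker a.1 a.2
      obtain ⟨lb, -, hbv, hbs⟩ := hker b.1 b.2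
      have ea : (ι a : F) = la := smul_left_injective F e.v_ne_zero ((hι a).trans hav)
      have eb : (ι b : F) = lb := smul_left_injective F e.v_ne_zero ((hι b).trans hbv)
      have hll : la = lb := by rw [← ea, ← eb, hab']
      have hfr : ∀ (c : φ.ker) (l : F), (c.1 : H).1.1.1 e.v = l • e.v →
          (c.1 : H).1.1.1 e.w = (σ l / l) • e.w := fun c l hv => by
        obtain ⟨-, -, g2, g3⟩ := e.shape C hv (det_eq_one _)
        have hg1 : j.1.1.1 ((c.1 : H).1.1.1 e.w) = (c.1 : H).1.1.1 e.w := by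
          rw [show j.1.1.1 ((c.1 : H).1.1.1 e.w) = (c.1 : H).1.1.1 (j.1.1.1 e.w) from
            (congrArg (fun k : H => k.1.1.1 e.w) (hcomm c.1)).symm, hw]
        have hg0 : B e.s ((c.1 : H).1.1.1 e.w) = 0 := by
          have := j.1.1.2 e.s ((c.1 : H).1.1.1 e.w)
          rw [hs, hg1, map_neg, LinearMap.neg_apply] at this
          exact (mul_eq_zero.1 (show (2 : F) * B e.s ((c.1 : H).1.1.1 e.w) = 0 by linear_combination -this)).resolve_left h2
        conv_lhs => rw [e.expand C ((c.1 : H).1.1.1 e.w), g2, g3, hg0]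
        simp
      refine Subtype.ext (Subtype.ext (Subtype.ext (Subtype.ext (Subtype.ext (LinearEquiv.ext fun y => ?_)))))
      change (a.1 : H).1.1.1 y = (b.1 : H).1.1.1 y
      rw [e.expand C y]
      simp only [map_add, map_smul, hav, has, hbv, hbs, hfr a la hav, hfr b lb hbv, hll]
  have hkS : k ∣ Nat.card S := Subgroup.card_dvd_of_le fun c hc => hkerS c hc
  obtain ⟨a, ha⟩ := hkS
  have hrange : Nat.card φ.range = (q + 1) * a := by
    have h3 := φ.ker.card_mul_index
    rw [Subgroup.index_ker, ← hk, hcard, ← hcS, ha] at h3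
    exact Nat.eq_of_mul_eq_mul_left (Nat.card_pos (α := φ.ker)) (h3.trans (by ring))
  refine ⟨k, a, Nat.card_pos, hkq, hcS ▸ ha, ?_⟩
  have hp : ¬ p ∣ Nat.card φ.range := by
    rw [hrange]
    intro hd
    rcases (Nat.Prime.dvd_mul Fact.out).1 hd with hd | hd
    · obtain ⟨n, hn, hq⟩ := exists_pow C p
      have : p ∣ q := hq ▸ dvd_pow_self p hn.ne'
      exact (Fact.out : p.Prime).one_lt.ne' (Nat.dvd_one.1 ((Nat.dvd_add_iff_right this).2 hd))
    · exact hA (hcS ▸ ha ▸ hd.mul_left k)
  rcases pgl_types p φ.range hp with ⟨M, hMc, hMn, hMi⟩ | h12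
  · left
    let Mc : Subgroup Cj := M.comap φ.rangeRestrict
    have hMc2 : Mc.index ≤ 2 := by rwa [Subgroup.index_comap_of_surjective _ φ.rangeRestrict_surjective]
    have hsub : ∀ x : Cj, x ∈ S → x ∈ Mc → φ x = 1 := by
      intro x hxS hxM
      -- conjugates of `x` stay in the stabiliser
      have hconj : ∀ h : Cj, h⁻¹ * x * h ∈ S := by
        intro h
        haveI := hMc
        obtain ⟨g, hg⟩ := IsCyclic.exists_generator (α := M)
        obtain ⟨i, hi⟩ := Subgroup.mem_zpowers_iff.1 (hg ⟨φ.rangeRestrict x, hxM⟩)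
        obtain ⟨m, hm⟩ := Subgroup.mem_zpowers_iff.1
          (hg ⟨(φ.rangeRestrict h)⁻¹ * g.1 * φ.rangeRestrict h, hMn.conj_mem' g.1 g.2 _⟩)
        have hx' : φ.rangeRestrict x = g.1 ^ i := by
          have := congrArg Subtype.val hi
          rw [SubgroupClass.coe_zpow] at this
          exact this.symm
        have hm' : (φ.rangeRestrict h)⁻¹ * g.1 * φ.rangeRestrict h = g.1 ^ m := by
          have := congrArg Subtype.val hm
          rw [SubgroupClass.coe_zpow] at this
          exact this.symm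
        have hpow : φ.rangeRestrict (h⁻¹ * x * h) = φ.rangeRestrict (x ^ m) := by
          rw [map_mul, map_mul, map_inv, map_zpow, hx']
          calc (φ.rangeRestrict h)⁻¹ * g.1 ^ i * φ.rangeRestrict h
              = MulAut.conj (φ.rangeRestrict h)⁻¹ (g.1 ^ i) := by simp
            _ = (g.1 ^ m) ^ i := by rw [map_zpow, ← hm']; simp
            _ = (g.1 ^ i) ^ m := by rw [← _root_.zpow_mul, ← _root_.zpow_mul, mul_comm]
        have h5 : φ (h⁻¹ * x * h * (x ^ m)⁻¹) = 1 := by
          rw [map_mul φ (h⁻¹ * x * h), map_inv φ (x ^ m), show φ (h⁻¹ * x * h) = φ (x ^ m) from congrArg Subtype.val hpow,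
            mul_inv_cancel]
        have := mul_mem (hkerS _ h5) (zpow_mem hxS m)
        rwa [inv_mul_cancel_right] at this
      have hall : ∀ y ∈ fixedBy (IsoPts B) j, (x : H) • y = y := by
        intro y hy
        rw [← horb] at hy
        obtain ⟨h, rfl⟩ := hy
        have h6 : (h⁻¹ * x * h) • e.pt = e.pt := hconj h
        rw [mul_smul, mul_smul, inv_smul_eq_iff] at h6
        exact h6
      obtain ⟨c, hc0, hc⟩ := C.herm.conj.exists_trace_zero
      obtain ⟨lv, hlv⟩ := (smul_pt_iff C (x : H).1 e.v_ne_zero e.vv e.v_ne_zero e.vv).1 (hall e.pt (by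
        rw [← horb]; exact mem_orbit_self _))
      have hsw : B e.w e.s = 0 := e.ws C
      obtain ⟨ls, hls⟩ := (smul_pt_iff C (x : H).1 e.s_ne_zero e.ss e.s_ne_zero e.ss).1 (hall _
        ((fix_line C H h2 h1 hw hs e.s_ne_zero e.ss).2 hsw))
      have hu : c • e.v + e.s ≠ 0 := fun e0 => by
        have := congrArg (B e.v) e0
        simp [e.vv, e.vs] at this
      have huu : B (c • e.v + e.s) (c • e.v + e.s) = 0 := by
        simp [map_add, map_smulₛₗ, e.vv, e.ss, e.vs, e.sv C]
        linear_combination hc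
      obtain ⟨lu, hlu⟩ := (smul_pt_iff C (x : H).1 hu huu hu huu).1 (hall _
        ((fix_line C H h2 h1 hw hs hu huu).2 (by simp [e.wv C, e.ws C])))
      have hlv' : (x : H).1.1.1 e.v = lv • e.v := hlv
      have hls' : (x : H).1.1.1 e.s = ls • e.s := hls
      rw [map_add, map_smul, hlv', hls'] at hlu
      have g1 := congrArg (B e.v) hlu
      have g2 := congrArg (B e.s) hlu
      simp [e.vv, e.vs, e.ss, e.sv C] at g1 g2
      have hll : lv = ls := by
        rw [g1]
        exact mul_left_cancel₀ hc0 (by linear_combination g2)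
      have hφ₀ : lineMat e (x : H) = Matrix.scalar (Fin 2) lv := by
        ext i i'
        fin_cases i <;> fin_cases i' <;>
          simp [lineMat, hlv', hls', hll, e.vv, e.vs, e.ss, e.sv C]
      refine (QuotientGroup.eq_one_iff _).2 ?_
      have hlv0 : lv ≠ 0 := fun e0 => e.v_ne_zero ((x : H).1.1.1.injective (by rw [hlv', e0, zero_smul, map_zero]))
      rw [Matrix.GeneralLinearGroup.center_eq_range_scalar]
      exact ⟨Units.mk0 lv hlv0, Units.ext hφ₀.symm⟩
    -- the stabiliser injects modulo the kernel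
    have hle : Nat.card S ≤ k * 2 := by
      have h7 := (Mc.subgroupOf S).card_mul_index
      rw [← h7]
      refine Nat.mul_le_mul ?_ ((Nat.le_of_dvd (Nat.pos_of_ne_zero Subgroup.index_ne_zero_of_finite)
        (Subgroup.relIndex_dvd_index_of_normal Mc S)).trans hMc2)
      refine Nat.card_le_card_of_injective (fun x => (⟨x.1.1, hsub _ x.1.2 x.2⟩ : φ.ker)) fun x y hxy =>
        Subtype.ext (Subtype.ext (congrArg (fun z : φ.ker => (z : Cj)) hxy))
    rw [ha] at hle
    exact Nat.le_of_mul_le_mul_left hle (Nat.card_pos (α := φ.ker))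
  · right
    rwa [hrange] at h12

end CfsgLib.KnownA.MinIndexU3
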