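import Cfsg.Agent.Lib.KnownA.MinIndexU3.Setup

/-!
# A large subgroup is transitive on the isotropic points
-/

set_option autoImplicit false
set_option linter.unusedSectionVars false

open Module MulAction CfsgLib.Classical CfsgLib.Classical.SUUnipotent
open scoped Pointwise

namespace CfsgLib.KnownA.MinIndexU3

variable {F : Type*} [Field F] [Fintype F] {V : Type*} [AddCommGroup V] [Module F V] [FiniteDimensional F V]
  [Finite V] {σ : F →+* F} {B : V →ₛₗ[σ] V →ₗ[F] F} {q : ℕ} (C : U3 B q) (p : ℕ) [Fact p.Prime] [CharP F p]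
  (H : Subgroup (sIsom B)) (f : Fr B)
include C

/-- The number `q` is a power of the characteristic. -/
theorem exists_pow : ∃ e : ℕ, 0 < e ∧ q = p ^ e := by
  obtain ⟨n, -, hn⟩ := FiniteField.card F p
  have hd : q ∣ p ^ (n : ℕ) := by rw [← hn, C.card]; exact dvd_pow_self q two_ne_zero
  obtain ⟨k, -, hk⟩ := (Nat.dvd_prime_pow Fact.out).1 hd
  refine ⟨k, Nat.pos_of_ne_zero fun e => ?_, hk⟩
  have := two_le_of_card_sq C.card
  rw [hk, e, pow_zero] at this
  omega

omit C in
theorem addSubgroup_card (S : AddSubgroup F) : ∃ n : ℕ, Nat.card S = p ^ n := by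
  obtain ⟨n, -, hn⟩ := FiniteField.card F p
  have h := S.card_addSubgroup_dvd_card
  rw [Nat.card_eq_fintype_card (α := F), hn] at h
  exact ((Nat.dvd_prime_pow Fact.out).1 h).imp fun _ h => h.2

theorem rad_isPGroup : IsPGroup p (rad H f) := by
  obtain ⟨a, ha⟩ := addSubgroup_card p (Wp C H f)
  obtain ⟨b, hb⟩ := addSubgroup_card p (Z0 H f)
  exact IsPGroup.of_card (n := a + b) (by rw [card_rad C, ha, hb, pow_add])

/-- Elements of `p`-power order fixing a point lie in the radical. -/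
theorem mem_rad_of_pow {g : H} (hg : g • f.pt = f.pt) {n : ℕ} (hn : g ^ p ^ n = 1) : g ∈ rad H f := by
  let g' : stabilizer H f.pt := ⟨g, hg⟩
  have h1 : g' ^ p ^ n = 1 := Subtype.ext hn
  have h2 : ((chi C H f g' : Fˣ) : F) ^ p ^ n = 1 := by
    rw [← Units.val_pow_eq_pow_val, ← map_pow, h1, map_one, Units.val_one]
  have h3 : (chi C H f g' : F) = 1 := by
    haveI : ExpChar F p := ExpChar.prime Fact.out
    exact (iterateFrobenius_inj F p n) (by rw [iterateFrobenius_def, iterateFrobenius_def, h2, one_pow])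
  have := chi_spec C H f g'
  rwa [h3, one_smul] at this

/-- A non-trivial element of the radical fixes one point. -/
theorem rad_fix {g : H} (hg : g ∈ rad H f) (h1 : g ≠ 1) {x : IsoPts B} (hx : g • x = x) : x = f.pt := by
  obtain ⟨t, c, hE⟩ := rad_isE C H f ⟨g, hg⟩
  obtain ⟨u, hu, huu, rfl⟩ := isoPt_surjective x
  obtain ⟨a, ha⟩ := (smul_pt_iff C g.1 hu huu hu huu).1 hx
  change g.1.1.1 u = a • u at ha
  by_cases hb : B f.v u = 0
  · have e := f.expand C u
    rw [hb, zero_smul, add_zero] at e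
    have hw : B f.w u = 0 := by
      rw [e] at huu
      simp [map_add, map_smulₛₗ, f.vv, f.vw, f.wv C, f.ww] at huu
      exact huu
    rw [hw, zero_smul, add_zero] at e
    exact Subtype.ext ((Projectivization.mk_eq_mk_iff' _ _ _ _ _).2 ⟨B f.s u, e.symm⟩)
  exfalso
  have ha1 : a = 1 := by
    have h2 := g.1.1.2 f.v u
    rw [isE_fix C f hE, ha, map_smul, smul_eq_mul] at h2
    exact mul_right_cancel₀ hb (h2.trans (one_mul _).symm)
  rw [ha1, one_smul, hE] at ha
  have e1 := congrArg (B f.w) ha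
  simp [map_add, map_sub, map_smul, f.ww, f.wv C, hb] at e1
  rw [e1] at ha
  have e2 := congrArg (B f.s) ha
  simp [map_add, map_smul, f.sv C, hb] at e2
  refine h1 (Subtype.ext (Subtype.ext (Subtype.ext (LinearEquiv.ext fun y => ?_))))
  change g.1.1.1 y = y
  rw [hE, e1, e2]
  simp

/-- A radical with non-trivial elements is a Sylow subgroup. -/
theorem exists_sylow (hne : rad H f ≠ ⊥) : ∃ P : Sylow p H, (P : Subgroup H) = rad H f := by
  classical
  obtain ⟨P, hP⟩ := (rad_isPGroup C p H f).exists_le_sylow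
  refine ⟨P, le_antisymm ?_ hP⟩
  obtain ⟨r, hr, hr1⟩ := (Subgroup.bot_or_exists_ne_one (rad H f)).resolve_left hne
  haveI : Nontrivial (P : Subgroup H) := ⟨⟨⟨r, hP hr⟩, 1, fun e => hr1 (congrArg Subtype.val e)⟩⟩
  haveI := P.2.center_nontrivial
  obtain ⟨⟨z, hz⟩, hz1⟩ := exists_ne (1 : Subgroup.center (P : Subgroup H))
  have hcomm : ∀ y : (P : Subgroup H), (y : H) * (z : H) = (z : H) * y := fun y =>
    congrArg Subtype.val (Subgroup.mem_center_iff.1 hz y)
  have hzfix : (z : H) • f.pt = f.pt := by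
    refine rad_fix C H f hr hr1 ?_
    rw [← mul_smul, hcomm ⟨r, hP hr⟩, mul_smul,
      show r • f.pt = f.pt from (rad_le_stab C H f hr)]
  obtain ⟨n, hn⟩ := P.2 z
  have hzr : (z : H) ∈ rad H f := mem_rad_of_pow C p H f hzfix (by simpa using congrArg Subtype.val hn)
  intro y hy
  obtain ⟨m, hm⟩ := P.2 ⟨y, hy⟩
  refine mem_rad_of_pow C p H f (rad_fix C H f hzr (fun e => hz1 (Subtype.ext (Subtype.ext e))) ?_)
    (by simpa using congrArg Subtype.val hm)
  rw [← mul_smul, ← hcomm ⟨y, hy⟩, mul_smul, hzfix]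

include p in
theorem move_of_rad {f' : Fr B} (hne : rad H f ≠ ⊥) (hne' : rad H f' ≠ ⊥) : ∃ h : H, h • f.pt = f'.pt := by
  obtain ⟨P, hP⟩ := exists_sylow C p H f hne
  obtain ⟨P', hP'⟩ := exists_sylow C p H f' hne'
  obtain ⟨h, hh⟩ := MulAction.exists_smul_eq H P P'
  obtain ⟨r, hr, hr1⟩ := (Subgroup.bot_or_exists_ne_one (rad H f)).resolve_left hne
  refine ⟨h, rad_fix C H f' (g := h * r * h⁻¹) ?_ (fun e => hr1 (conj_eq_one_iff.1 e)) ?_⟩
  · rw [← hP', ← hh, Sylow.coe_subgroup_smul, hP]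
    exact ⟨r, hr, rfl⟩
  · rw [mul_smul, mul_smul, inv_smul_smul, show r • f.pt = f.pt from (rad_le_stab C H f hr)]

include p in
theorem coprime_count : ¬ p ∣ (q ^ 3 + 1) * (q ^ 2 - 1) := by
  obtain ⟨e, he, hq⟩ := exists_pow C p
  have hpq : p ∣ q := hq ▸ dvd_pow_self p he.ne'
  intro h
  rcases (Nat.Prime.dvd_mul Fact.out).1 h with h | h
  · have h1 := (Nat.dvd_add_iff_right (hpq.trans (dvd_pow_self q (by norm_num : (3 : ℕ) ≠ 0)))).2 h
    exact (Fact.out : p.Prime).one_lt.ne' (Nat.dvd_one.1 h1)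
  · have h0 : p ∣ q ^ 2 := hpq.trans (dvd_pow_self q (by norm_num))
    have h1 := Nat.dvd_sub h0 h
    rw [Nat.sub_sub_self (Nat.one_le_pow _ _ (by have := two_le_of_card_sq C.card; omega))] at h1
    exact (Fact.out : p.Prime).one_lt.ne' (Nat.dvd_one.1 h1)

theorem mults_le : Nat.card (mults C H f) ≤ q ^ 2 - 1 := by
  refine (Subgroup.card_le_card_group _).trans ?_
  rw [Nat.card_units, Nat.card_eq_fintype_card, C.card]

variable (hbig : (q ^ 3 + 1) * (q ^ 2 - 1) ≤ Nat.card H)
include hbig p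

theorem stab_of_rad_bot (h : rad H f = ⊥) :
    Nat.card (stabilizer H f.pt) = q ^ 2 - 1 ∧ Nat.card (orbit H f.pt) = q ^ 3 + 1 := by
  have h1 := (stab_large C H hbig f.pt).1
  have h2 := card_stab C H f
  rw [h, Subgroup.card_bot, mul_one] at h2
  have h3 := mults_le C H f
  refine ⟨by omega, ?_⟩
  have h4 := (stabilizer H f.pt).card_mul_index
  rw [MulAction.index_stabilizer, ← Nat.card_coe_set_eq] at h4
  have hle : Nat.card (orbit H f.pt) ≤ q ^ 3 + 1 :=
    card_isoPts C ▸ Nat.card_le_card_of_injective Subtype.val Subtype.val_injective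
  refine le_antisymm hle (Nat.le_of_mul_le_mul_left ?_ (show 0 < q ^ 2 - 1 from ?_))
  · rw [← show Nat.card (stabilizer H f.pt) = q ^ 2 - 1 by omega, h4, mul_comm]
    rwa [show Nat.card (stabilizer H f.pt) = q ^ 2 - 1 by omega]
  · have := two_le_of_card_sq C.card
    have : 2 ^ 2 ≤ q ^ 2 := Nat.pow_le_pow_left this 2
    omega

/-- A large subgroup is transitive. -/
theorem transitive : IsPretransitive H (IsoPts B) := by
  by_cases hall : ∀ f : Fr B, rad H f ≠ ⊥
  · refine ⟨fun x y => ?_⟩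
    obtain ⟨f, rfl⟩ := exists_fr_pt C x
    obtain ⟨f', rfl⟩ := exists_fr_pt C y
    exact move_of_rad C p H f (hall f) (hall f')
  · push Not at hall
    obtain ⟨f, hf⟩ := hall
    obtain ⟨-, ho⟩ := stab_of_rad_bot C p H f hbig hf
    have hu : orbit H f.pt = Set.univ := (Set.eq_univ_iff_forall.2 fun x => by
      by_contra hx
      have h1 : Nat.card (orbit H f.pt) < Nat.card (IsoPts B) := by
        rw [Nat.card_coe_set_eq, ← Set.ncard_univ]
        exact Set.ncard_lt_ncard ((Set.ssubset_univ_iff).2 fun e => hx (e ▸ Set.mem_univ x)) Set.finite_univ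
      rw [ho, card_isoPts C] at h1
      exact lt_irrefl _ h1)
    exact MulAction.isPretransitive_iff_orbit_eq_univ f.pt |>.2 hu

theorem card_H : Nat.card H = (q ^ 3 + 1) * (Nat.card (mults C H f) * (Nat.card (Wp C H f) * Nat.card (Z0 H f))) := by
  haveI := transitive C p H hbig
  rw [(stab_large C H hbig f.pt).2 (by rw [orbit_eq_univ H f.pt, Nat.card_univ, card_isoPts C]),
    card_stab C H f, card_rad C H f]

theorem stab_bound : q ^ 2 - 1 ≤ Nat.card (mults C H f) * (Nat.card (Wp C H f) * Nat.card (Z0 H f)) := by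
  rw [← card_rad C H f, ← card_stab C H f]
  exact (stab_large C H hbig f.pt).1

/-- Radicals are trivial everywhere or nowhere. -/
theorem rad_bot_all (h : rad H f = ⊥) (f' : Fr B) : rad H f' = ⊥ := by
  have hH : Nat.card H = (q ^ 3 + 1) * (q ^ 2 - 1) := by
    rw [(stab_large C H hbig f.pt).2 (stab_of_rad_bot C p H f hbig h).2, (stab_of_rad_bot C p H f hbig h).1]
  obtain ⟨n, hn⟩ := IsPGroup.iff_card.1 (rad_isPGroup C p H f')
  have hd := Subgroup.card_subgroup_dvd_card (rad H f')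
  rw [hn, hH] at hd
  rcases Nat.eq_zero_or_pos n with rfl | hn0
  · exact Subgroup.eq_bot_of_card_eq _ (by rw [hn, pow_zero])
  · exact absurd ((dvd_pow_self p hn0.ne').trans hd) (coprime_count C p)

end CfsgLib.KnownA.MinIndexU3
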