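import Cfsg.Agent.Lib.KnownA.MinIndexU3.Line

/-!
# Large subgroups without transvections
-/

set_option autoImplicit false
set_option linter.unusedSectionVars false
set_option linter.style.haveILetI false

open Module MulAction CfsgLib.Classical CfsgLib.Classical.SUUnipotent

namespace CfsgLib.KnownA.MinIndexU3

variable {F : Type*} [Field F] [Fintype F] {V : Type*} [AddCommGroup V] [Module F V] [FiniteDimensional F V]
  [Finite V] {σ : F →+* F} {B : V →ₛₗ[σ] V →ₗ[F] F} {q : ℕ} (C : U3 B q) (H : Subgroup (sIsom B))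
include C

theorem exists_frame : ∃ _f : Fr B, True := by
  obtain ⟨r, -, hr0, hrr⟩ := C.herm.exists_isotropic (nondegOn_iff.2 fun x _ hx => C.sep x fun y => hx y trivial :
      NondegOn B (⊤ : Submodule F V)) (by rw [finrank_top, C.dim]; omega)
  obtain ⟨f, -⟩ := exists_fr C hr0 hrr
  exact ⟨f, trivial⟩

/-- An involution fixes an isotropic point. -/
theorem exists_fixed_pt (g : sIsom B) (hg : g * g = 1) : ∃ x : IsoPts B, g • x = x := by
  have h := C.herm
  obtain ⟨f₀, -⟩ := exists_frame C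
  by_cases hfix : g • f₀.pt = f₀.pt
  · exact ⟨_, hfix⟩
  set u := f₀.v with hu
  have huu : B u u = 0 := f₀.vv
  have hgg : ∀ x, g.1.1 (g.1.1 x) = x := fun x => congrArg (fun k : sIsom B => k.1.1 x) hg
  set b := B u (g.1.1 u) with hb
  have hguu : B (g.1.1 u) (g.1.1 u) = 0 := (g.1.2 u u).trans huu
  have hb0 : b ≠ 0 := by
    intro e
    refine hfix ((smul_pt_iff C g f₀.v_ne_zero f₀.vv f₀.v_ne_zero f₀.vv).2 ⟨B f₀.s (g.1.1 f₀.v), ?_⟩)
    have he := f₀.expand C (g.1.1 f₀.v)
    rw [show B f₀.v (g.1.1 f₀.v) = 0 from e, zero_smul, add_zero] at he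
    have hw : B f₀.w (g.1.1 f₀.v) = 0 := by
      have h3 := hguu
      rw [hu, he] at h3
      simp [map_add, map_smulₛₗ, f₀.vv, f₀.vw, f₀.wv C, f₀.ww] at h3
      exact h3
    rw [hw, zero_smul, add_zero] at he
    exact he
  have hbσ : σ b = b := by
    rw [hb, h.symm]
    calc B (g.1.1 u) u = B (g.1.1 u) (g.1.1 (g.1.1 u)) := by rw [hgg]
      _ = B u (g.1.1 u) := g.1.2 _ _
  set s := b⁻¹ • g.1.1 u with hs
  have hvs : B u s = 1 := by rw [hs, map_smul, smul_eq_mul, ← hb, inv_mul_cancel₀ hb0]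
  have hss : B s s = 0 := by rw [hs, h.smul_self, hguu, mul_zero]
  have hP := h.nondegOn_hyp huu hvs
  have hd := hP.finrank_perp
  rw [h.finrank_hyp huu hvs, C.dim] at hd
  obtain ⟨w, hw, hw1⟩ := h.exists_unit_in (nondegOn_perp C.sep hP) (by omega) (a := (1 : F)) (map_one σ)
  let f : Fr B := ⟨u, w, s, huu, hss, hvs, hw1, mem_perp_span.1 hw u (by simp), mem_perp_span.1 hw s (by simp)⟩
  have hgv : g.1.1 f.v = b • f.s := by
    change g.1.1 u = b • s
    rw [hs, smul_inv_smul₀ hb0]
  have hgs : g.1.1 f.s = b⁻¹ • f.v := by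
    change g.1.1 s = b⁻¹ • u
    rw [hs, map_smul, hgg]
  have hvw : B f.v (g.1.1 f.w) = 0 := by
    rw [← g.1.2 f.v (g.1.1 f.w), hgg, hgv, map_smulₛₗ, LinearMap.smul_apply, f.sw, smul_zero]
  have hsw : B f.s (g.1.1 f.w) = 0 := by
    rw [← g.1.2 f.s (g.1.1 f.w), hgg, hgs, map_smulₛₗ, LinearMap.smul_apply, f.vw, smul_zero]
  have hgw : g.1.1 f.w = B f.w (g.1.1 f.w) • f.w := by
    conv_lhs => rw [f.expand C (g.1.1 f.w), hvw, hsw, zero_smul, zero_smul, add_zero, zero_add]
  set μ := B f.w (g.1.1 f.w)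
  have hμ : μ = -1 := by
    have hdet := det_eq_one g
    rw [f.det_eq C, Matrix.det_fin_three] at hdet
    simp [hgv, hgs, hgw, f.sv C, f.ss, f.vv, f.vs, f.sw, f.vw, f.wv C, f.ws C, f.ww, hb0] at hdet
    field_simp at hdet
    linear_combination -hdet
  obtain ⟨c, hc⟩ := h.conj.exists_norm_eq (a := 2 * b) (by rw [map_mul, map_ofNat, hbσ])
  set x := f.v - b • f.s + c • f.w
  have hxx : B x x = 0 := by
    simp [x, map_smulₛₗ, f.vv, f.ss, f.vs, f.sv C, f.vw, f.sw, f.wv C, f.ws C, f.ww, hbσ]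
    linear_combination hc
  have hx0 : x ≠ 0 := fun e => by
    have h3 := congrArg (B f.s) e
    simp [x, f.sv C, f.ss, f.sw] at h3
  refine ⟨isoPt B hx0 hxx, (smul_pt_iff C g hx0 hxx hx0 hxx).2 ⟨-1, ?_⟩⟩
  simp only [x, map_add, map_sub, map_smul, hgv, hgs, hgw, hμ, smul_smul, mul_inv_cancel₀ hb0]
  module

variable (p : ℕ) [Fact p.Prime] [CharP F p] (hbig : (q ^ 3 + 1) * (q ^ 2 - 1) ≤ Nat.card H)
include p hbig

theorem mults_top {f : Fr B} (h : rad H f = ⊥) : mults C H f = ⊤ := by
  have h1 := (stab_of_rad_bot C p H f hbig h).1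
  rw [card_stab C H f, h, Subgroup.card_bot, mul_one] at h1
  refine Subgroup.eq_top_of_card_eq _ ?_
  rw [h1, Nat.card_units, Nat.card_eq_fintype_card, C.card]

/-- In characteristic two the radicals are non-trivial. -/
theorem regular_even {f : Fr B} (hq : 3 ≤ q) (h : rad H f = ⊥) (h2 : (2 : F) = 0) : False := by
  classical
  haveI := transitive C p H hbig
  obtain ⟨γ, hγ⟩ := IsCyclic.exists_generator (α := Fˣ)
  have hord : orderOf γ = q ^ 2 - 1 := by
    rw [orderOf_eq_card_of_forall_mem_zpowers hγ, Nat.card_units, Nat.card_eq_fintype_card, C.card]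
  have hsq : 2 * q + 1 < q ^ 2 - 1 := by
    have : 3 * q ≤ q ^ 2 := by rw [pow_two]; exact Nat.mul_le_mul_right _ hq
    omega
  have hγne : ∀ n : ℕ, 0 < n → n < q ^ 2 - 1 → (γ : F) ^ n ≠ 1 := fun n h0 hn e => by
    have := pow_ne_one_of_lt_orderOf h0.ne' (hord ▸ hn : n < orderOf γ)
    exact this (Units.ext (by simpa using e))
  set a := (γ : F)
  have ha0 : a ≠ 0 := γ.ne_zero
  have hσa : σ a = a ^ q := C.frob a
  have hσ0 := sigma_ne_zero C ha0
  set μ := σ a / a
  set ν := (σ a)⁻¹
  have hne1 : a ≠ μ := fun e => hγne (q - 2) (by omega) (by omega) (by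
    have e' : a * a = σ a := (eq_div_iff ha0).1 e
    rw [hσa, show q = q - 2 + 2 by omega, pow_add, pow_two] at e'
    exact (mul_right_cancel₀ (mul_ne_zero ha0 ha0) ((one_mul _).trans e')).symm)
  have hne2 : a ≠ ν := fun e => hγne (q + 1) (by omega) (by omega) (by
    have e' : a * σ a = 1 := (congrArg (fun z => z * σ a) e).trans (inv_mul_cancel₀ hσ0)
    rw [hσa] at e'
    rwa [pow_succ, mul_comm])
  have hne3 : μ ≠ ν := fun e => hγne (2 * q - 1) (by omega) (by omega) (by
    have e' : σ a * σ a = a := by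
      simp only [μ, ν] at e
      field_simp at e
      linear_combination e
    rw [hσa, ← pow_add, show q + q = 2 * q - 1 + 1 by omega, pow_succ] at e'
    exact mul_right_cancel₀ ha0 (e'.trans (one_mul a).symm))
  have two_fixed : ∀ e : Fr B, ∃ y : IsoPts B, y ≠ e.pt ∧ stabilizer H e.pt ≤ stabilizer H y ∧
      ∀ z : IsoPts B, stabilizer H e.pt ≤ stabilizer H z → z = e.pt ∨ z = y := by
    intro e
    have he : rad H e = ⊥ := rad_bot_all C p H f hbig h e
    obtain ⟨g, hg⟩ : γ ∈ mults C H e := by rw [mults_top C H p hbig he]; exact Subgroup.mem_top _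
    have hgv : g.1.1.1.1 e.v = a • e.v := by rw [chi_spec C H e g, hg]
    obtain ⟨-, e1, e2, e3⟩ := e.shape C hgv (det_eq_one g.1.1)
    have hgen : ∀ k : stabilizer H e.pt, k ∈ Subgroup.zpowers g := by
      intro k
      obtain ⟨i, hi⟩ := Subgroup.mem_zpowers_iff.1 (hγ (chi C H e k))
      refine Subgroup.mem_zpowers_iff.2 ⟨i, ?_⟩
      have h1 : chi C H e ((g ^ i)⁻¹ * k) = 1 := by rw [map_mul, map_inv, map_zpow, hg, hi, inv_mul_cancel]
      have hv := chi_spec C H e ((g ^ i)⁻¹ * k)
      rw [h1, Units.val_one, one_smul] at hv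
      have hm : (((g ^ i)⁻¹ * k : stabilizer H e.pt) : H) ∈ rad H e := hv
      rw [he, Subgroup.mem_bot] at hm
      exact inv_mul_eq_one.1 (Subtype.ext hm)
    set η := B e.s (g.1.1.1.1 e.w)
    set aa := B e.w (g.1.1.1.1 e.s)
    set bb := B e.s (g.1.1.1.1 e.s)
    have hgw : g.1.1.1.1 e.w = η • e.v + μ • e.w := by
      conv_lhs => rw [e.expand C (g.1.1.1.1 e.w), e2, e3, zero_smul, add_zero]
    have hgs : g.1.1.1.1 e.s = bb • e.v + aa • e.w + ν • e.s := by
      conv_lhs => rw [e.expand C (g.1.1.1.1 e.s), e1]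
    set w' := e.w + (η / (μ - a)) • e.v
    have hw' : g.1.1.1.1 w' = μ • w' := by
      simp only [w', map_add, map_smul, hgw, hgv]
      match_scalars
      · have := sub_ne_zero.2 hne1.symm
        field_simp
        ring
      · ring
    set β := aa / (ν - μ)
    set δ := (bb - aa * η / (μ - a)) / (ν - a)
    set u := e.s + δ • e.v + β • w'
    have hgu : g.1.1.1.1 u = ν • u := by
      simp only [u, map_add, map_smul, hgs, hgv, hw']
      simp only [w', β, δ]
      have d1 := sub_ne_zero.2 hne1.symm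
      have d2 := sub_ne_zero.2 hne2.symm
      have d3 := sub_ne_zero.2 hne3.symm
      match_scalars <;> field_simp <;> ring
    have hu0 : u ≠ 0 := fun e0 => by
      have h3 := congrArg (B e.v) e0
      simp [u, w', e.vs, e.vv, e.vw] at h3
    have huu : B u u = 0 := by
      have h4 := g.1.1.1.2 u u
      rw [hgu, C.herm.smul_self] at h4
      by_contra hne
      have hN : ν * σ ν = 1 := mul_right_cancel₀ hne (h4.trans (one_mul _).symm)
      apply hγne (q + 1) (by omega) (by omega)
      rw [show σ ν = a⁻¹ by simp only [ν, map_inv₀, C.herm.conj.invol]] at hN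
      simp only [ν] at hN
      rw [← mul_inv, inv_eq_one, hσa, ← pow_succ] at hN
      exact hN
    refine ⟨isoPt B hu0 huu, fun e0 => ?_, fun k hk => ?_, fun z hz => ?_⟩
    · obtain ⟨t, ht⟩ := (Projectivization.mk_eq_mk_iff' F _ _ hu0 e.v_ne_zero).1 (congrArg Subtype.val e0)
      have h3 := congrArg (B e.v) ht
      simp [u, w', e.vs, e.vv, e.vw] at h3
    · have hg' : g.1 ∈ stabilizer H (isoPt B hu0 huu) := (smul_pt_iff C g.1.1 hu0 huu hu0 huu).2 ⟨ν, hgu⟩
      obtain ⟨i, hi⟩ := Subgroup.mem_zpowers_iff.1 (hgen ⟨k, hk⟩)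
      have : k = g.1 ^ i := by rw [← SubgroupClass.coe_zpow, hi]
      rw [this]
      exact zpow_mem hg' i
    · obtain ⟨x, hx, hxx, rfl⟩ := isoPt_surjective z
      obtain ⟨l, hl⟩ := (smul_pt_iff C g.1.1 hx hxx hx hxx).1 (hz g.2)
      change g.1.1.1.1 x = l • x at hl
      -- coordinates in the eigenbasis
      set c3 := B e.v x
      set c2 := B e.w x - c3 * β
      set c1 := B e.s x - c3 * δ - (c3 * β + c2) * (η / (μ - a))
      have hx' : x = c1 • e.v + c2 • w' + c3 • u := by
        conv_lhs => rw [e.expand C x]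
        simp only [c1, c2, u, w', c3]
        module
      have hl' := hl
      rw [hx'] at hl'
      simp only [map_add, map_smul, hgv, hw', hgu] at hl'
      have k3 := congrArg (B e.v) hl'
      simp [u, w', e.vs, e.vv, e.vw] at k3
      have k2 := congrArg (B e.w) hl'
      simp [u, w', e.ws C, e.wv C, e.ww] at k2
      by_cases hc3 : c3 = 0
      · left
        have hc2 : c2 = 0 := by
          rw [hx', hc3] at hxx
          simp [w', map_smulₛₗ, e.vv, e.vw, e.wv C, e.ww] at hxx
          exact hxx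
        refine Subtype.ext ((Projectivization.mk_eq_mk_iff' F _ _ hx e.v_ne_zero).2 ⟨c1, ?_⟩)
        rw [hx', hc2, hc3, zero_smul, zero_smul, add_zero, add_zero]
      · right
        have hlν : ν = l := mul_left_cancel₀ hc3 (by linear_combination k3)
        subst hlν
        have hc2 : c2 = 0 := (mul_eq_zero.1 (show c2 * (μ - ν) = 0 by linear_combination k2)).resolve_right
          (sub_ne_zero.2 hne3)
        have k1 := congrArg (B e.s) hl'
        rw [hc2] at k1
        simp [u, w', e.sv C, e.ss, e.sw] at k1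
        have hc1 : c1 = 0 := (mul_eq_zero.1 (show c1 * (a - ν) = 0 by linear_combination k1)).resolve_right
          (sub_ne_zero.2 hne2)
        refine Subtype.ext ((Projectivization.mk_eq_mk_iff' F _ _ hx hu0).2 ⟨c3, ?_⟩)
        rw [hx', hc1, hc2, zero_smul, zero_smul, zero_add, zero_add]
  -- the fixed-point-free involution on the points
  have hpair : ∀ x : IsoPts B, ∃ y, y ≠ x ∧ stabilizer H y = stabilizer H x ∧
      ∀ z, stabilizer H z = stabilizer H x → z = x ∨ z = y := by
    intro x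
    obtain ⟨e, rfl⟩ := exists_fr_pt C x
    obtain ⟨y, hy1, hy2, hy3⟩ := two_fixed e
    obtain ⟨e', he'⟩ := exists_fr_pt C y
    refine ⟨y, hy1, (Subgroup.eq_of_le_of_card_ge hy2 ?_).symm, fun z hz => hy3 z hz.ge⟩
    rw [← he', (stab_of_rad_bot C p H e' hbig (rad_bot_all C p H f hbig h e')).1,
      (stab_of_rad_bot C p H e hbig (rad_bot_all C p H f hbig h e)).1]
  choose m hm1 hm2 hm3 using hpair
  have hinv : Function.Involutive m := fun x => by
    rcases hm3 x (m (m x)) ((hm2 (m x)).trans (hm2 x)) with e | e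
    · exact e
    · exact absurd e (hm1 (m x))
  let π : Equiv.Perm (IsoPts B) := hinv.toPerm
  haveI : Fintype (IsoPts B) := Fintype.ofFinite _
  have hsupp : π.support = Finset.univ := by
    ext x
    simp only [Equiv.Perm.mem_support, Finset.mem_univ, iff_true]
    exact hm1 x
  have heven : 2 ∣ Fintype.card (IsoPts B) := by
    have := Equiv.Perm.two_dvd_card_support (σ := π) (Equiv.ext fun x => hinv x)
    rwa [hsupp, Finset.card_univ] at this
  rw [← Nat.card_eq_fintype_card, card_isoPts C] at heven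
  obtain ⟨n, -, hqn⟩ := exists_pow C p
  have hp2 : p = 2 := ((Nat.prime_dvd_prime_iff_eq Fact.out Nat.prime_two).1
    ((CharP.cast_eq_zero_iff F p 2).1 (by exact_mod_cast h2)))
  have hq2 : 2 ∣ q := by
    rw [hqn, hp2]
    exact dvd_pow_self 2 (fun e => by rw [e, pow_zero] at hqn; omega)
  have h2q : 2 ∣ q ^ 3 := hq2.trans (dvd_pow_self q (by norm_num))
  omega

variable (h2 : (2 : F) ≠ 0)
include h2

theorem line_bound {f : Fr B} (hA : (-1 : Fˣ) ∈ mults C H f) (hZ : ∀ e : Fr B, Z0 H e = ⊥) :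
    ∃ e : Fr B, ∃ k a : ℕ, 0 < k ∧ k ∣ q + 1 ∧ Nat.card (mults C H e) = k * a ∧
      (a ≤ 2 ∨ (q + 1) * a = 12 ∨ (q + 1) * a = 24 ∨ (q + 1) * a = 60) := by
  obtain ⟨j, hj, hjv⟩ := exists_involution C H p h2 f hA
  obtain ⟨e, -, h1, hw, hs⟩ := exists_adapted C H h2 f hj hjv
  refine ⟨e, line_orders C H p h2 hbig hj h1 hw hs (hZ e) fun hd => ?_⟩
  have h3 := hd.trans (Subgroup.card_subgroup_dvd_card _)
  rw [Nat.card_units, Nat.card_eq_fintype_card, C.card] at h3
  exact coprime_count C p (h3.mul_left _)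

/-- A large subgroup of order prime to the characteristic. -/
theorem regular_odd {f : Fr B} (hq : 3 ≤ q) (h5 : q ≠ 5) (h : rad H f = ⊥) :
    q = 3 ∧ Nat.card H = 224 ∧ 2 ∣ Nat.card H := by
  have hZ : ∀ e : Fr B, Z0 H e = ⊥ := fun e => by
    have h3 := card_rad C H e
    rw [rad_bot_all C p H f hbig h e, Subgroup.card_bot] at h3
    exact AddSubgroup.eq_bot_of_card_eq _ (Nat.dvd_one.1 ⟨_, h3.trans (mul_comm _ _)⟩)
  obtain ⟨e, k, a, hk0, hkq, hA, hcases⟩ := line_bound C H p hbig h2 (f := f)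
    (by rw [mults_top C H p hbig h]; exact Subgroup.mem_top _) hZ
  have he := rad_bot_all C p H f hbig h e
  rw [mults_top C H p hbig he, Subgroup.card_top, Nat.card_units, Nat.card_eq_fintype_card, C.card] at hA
  have hcard : Nat.card H = (q ^ 3 + 1) * (q ^ 2 - 1) := by
    rw [(stab_large C H hbig f.pt).2 (stab_of_rad_bot C p H f hbig h).2, (stab_of_rad_bot C p H f hbig h).1]
  have hsq : q ^ 2 - 1 = (q + 1) * (q - 1) := by
    obtain ⟨r, rfl⟩ : ∃ r, q = r + 1 := ⟨q - 1, by omega⟩
    rw [Nat.add_sub_cancel]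
    have : (r + 1) ^ 2 = (r + 1 + 1) * r + 1 := by ring
    omega
  have hk := Nat.le_of_dvd (by omega) hkq
  have ha : q - 1 ≤ a := by
    refine Nat.le_of_mul_le_mul_left (?_ : (q + 1) * (q - 1) ≤ (q + 1) * a) (by omega)
    rw [← hsq, hA]
    exact Nat.mul_le_mul_right _ hk
  obtain ⟨n, hn, hqn⟩ := exists_pow C p
  have hodd : Odd q := hqn ▸ ((Fact.out : p.Prime).odd_of_ne_two (p_odd C p h2)).pow
  have hq7 : q ≤ 7 := by
    by_contra hh
    have : 9 * 7 ≤ (q + 1) * a := Nat.mul_le_mul (by omega) (by omega)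
    omega
  obtain ⟨m, hm⟩ := hodd
  have hq3 : q = 3 := by
    by_contra hne
    have hq7' : q = 7 := by omega
    subst hq7'
    omega
  subst hq3
  rw [hcard]
  norm_num

/-- A large subgroup with radicals but no transvections, in odd characteristic. -/
theorem abelian_odd {f : Fr B} (hq : 3 ≤ q) (h5 : q ≠ 5) (hR : rad H f ≠ ⊥) (hZ : ∀ e : Fr B, Z0 H e = ⊥) :
    q = 11 ∧ Nat.card H = 439560 ∧ ∀ e : Fr B, 30 = Nat.card (mults C H e) := by
  classical
  haveI := transitive C p H hbig
  have h := C.herm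
  have hall : ∀ e : Fr B, rad H e ≠ ⊥ := fun e he => hR (rad_bot_all C p H e hbig he f)
  have hne : ∀ e : Fr B, Wp C H e ≠ ⊥ := fun e he => hall e (by
    refine Subgroup.eq_bot_of_card_eq _ ?_
    rw [card_rad C H e, he, hZ e, AddSubgroup.card_bot, one_mul])
  -- the shape at a point
  have shape : ∀ e : Fr B, Nat.card (Wp C H e) = q ∧ ∃ r g : ℕ,
      Nat.card (mults C H e) = g * r ∧ g = 3 ∧ r ∣ q - 1 ∧ 3 ∣ 2 * q - 1 ∧ q ≤ 3 * r := by
    intro e
    obtain ⟨⟨t₀, ht₀⟩, ht₀'⟩ := @exists_ne _ ((AddSubgroup.nontrivial_iff_ne_bot _).2 (hne e)) (0 : Wp C H e)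
    have ht0 : t₀ ≠ 0 := fun e0 => ht₀' (Subtype.ext e0)
    have hfix : ∀ t ∈ Wp C H e, σ (t / t₀) = t / t₀ := by
      intro t ht
      have := comm_mem_Z0 C H e ht₀ ht
      rw [hZ e, AddSubgroup.mem_bot] at this
      have := sigma_ne_zero C ht0
      rw [map_div₀]
      field_simp
      linear_combination (‹σ t * t₀ - σ t₀ * t = 0›)
    have hw : Nat.card (Wp C H e) ≤ q := by
      refine (Nat.card_le_card_of_injective (fun t => (⟨t.1 / t₀, mem_fixedField.2 (hfix _ t.2)⟩ : fixedField σ))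
        fun a b hab => Subtype.ext ?_).trans_eq (natCard_fixedField C)
      exact (div_left_inj' ht0).1 (congrArg (fun x : fixedField σ => (x : F)) hab)
    let xh : mults C H e →* Fˣ :=
      { toFun := fun α => (Units.map (σ : F →* F) α.1) ^ 2 / α.1
        map_one' := by simp
        map_mul' := fun a b => by
          simp only [Subgroup.coe_mul, map_mul, mul_pow]
          rw [mul_div_mul_comm] }
    have hxW : ∀ α, ((xh α : Fˣ) : F) * t₀ ∈ Wp C H e := fun α => by
      have := (mults_act C H e α.2).1 t₀ ht₀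
      convert this using 2
      change (((Units.map (σ : F →* F) α.1) ^ 2 / α.1 : Fˣ) : F) = _
      rw [Units.val_div_eq_div_val, pow_two]
      rfl
    have hxfix : ∀ α, σ ((xh α : Fˣ) : F) = ((xh α : Fˣ) : F) := fun α => by
      have := hfix _ (hxW α)
      rwa [mul_div_cancel_right₀ _ ht0] at this
    have hr1 : Nat.card xh.range ∣ q - 1 := by
      rw [← (frob_cards C.card C.frob h.conj).1]
      refine Subgroup.card_dvd_of_le ?_
      rintro _ ⟨α, rfl⟩
      exact mem_fixedUnits.2 (hxfix α)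
    have hr2 : Nat.card xh.range + 1 ≤ Nat.card (Wp C H e) := by
      rw [← Finite.card_option]
      refine Nat.card_le_card_of_injective (fun o : Option xh.range => o.elim (0 : Wp C H e) fun x =>
        (⟨((x.1 : Fˣ) : F) * t₀, by obtain ⟨α, hα⟩ := x.2; rw [← hα]; exact hxW α⟩ : Wp C H e)) ?_
      intro o o' hoo
      have h3 := congrArg (fun w : Wp C H e => (w : F)) hoo
      rcases o with - | x <;> rcases o' with - | y
      · rfl
      · exact absurd h3.symm (mul_ne_zero (Units.ne_zero _) ht0)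
      · exact absurd h3 (mul_ne_zero (Units.ne_zero _) ht0)
      · rw [Subtype.ext (Units.ext (mul_right_cancel₀ ht0 h3))]
    have hg : Nat.card xh.ker ∣ 3 ∧ Nat.card xh.ker ∣ 2 * q - 1 := by
      obtain ⟨k, hk⟩ := IsCyclic.exists_generator (α := xh.ker)
      rw [← orderOf_eq_card_of_forall_mem_zpowers hk, ← Subgroup.orderOf_coe, ← Subgroup.orderOf_coe]
      set u : Fˣ := ((k : mults C H e) : Fˣ)
      have e1 : (Units.map (σ : F →* F) u) ^ 2 = u := div_eq_one.1 (MonoidHom.mem_ker.1 k.2)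
      have hm : Units.map (σ : F →* F) u = u ^ q := Units.ext (by simp [C.frob])
      rw [hm, ← pow_mul] at e1
      have e2 : u ^ (2 * q - 1) = 1 := by
        refine mul_right_cancel (b := u) ?_
        rw [← pow_succ, Nat.sub_add_cancel (by omega), one_mul, mul_comm 2]
        exact e1
      have e3 : u ^ (q ^ 2 - 1) = 1 := by
        rw [← C.card, ← Nat.card_eq_fintype_card, ← Nat.card_units]
        exact pow_card_eq_one'
      have d1 := orderOf_dvd_of_pow_eq_one e2
      have d2 := orderOf_dvd_of_pow_eq_one e3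
      refine ⟨?_, d1⟩
      have key : (2 * q + 1) * (2 * q - 1) = 4 * (q ^ 2 - 1) + 3 := by
        obtain ⟨r, rfl⟩ : ∃ r, q = r + 1 := ⟨q - 1, by omega⟩
        rw [show 2 * (r + 1) - 1 = 2 * r + 1 by omega,
          show (r + 1) ^ 2 - 1 = r * r + 2 * r by
            have : (r + 1) ^ 2 = r * r + 2 * r + 1 := by ring
            omega]
        ring
      exact (Nat.dvd_add_right (d2.mul_left 4)).1 (key ▸ d1.mul_left _)
    have hA : Nat.card (mults C H e) = Nat.card xh.ker * Nat.card xh.range := by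
      rw [← Subgroup.index_ker]; exact xh.ker.card_mul_index.symm
    have hb := stab_bound C p H e hbig
    rw [hZ e, AddSubgroup.card_bot, mul_one, hA] at hb
    have hg3 := Nat.le_of_dvd (by norm_num) hg.1
    obtain ⟨i, hi⟩ := addSubgroup_card p (Wp C H e)
    obtain ⟨n, hn, hqn⟩ := exists_pow C p
    have hp3 : 3 ≤ p := by
      have := (Fact.out : p.Prime).two_le
      have := p_odd C p h2
      omega
    have hwq : Nat.card (Wp C H e) = q := by
      by_contra hne'
      have hlt : i < n := by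
        by_contra hh
        have : q ≤ Nat.card (Wp C H e) := by
          rw [hi, hqn]
          exact Nat.pow_le_pow_right (by omega) (by omega)
        omega
      have h3w : 3 * Nat.card (Wp C H e) ≤ q := by
        rw [hi, hqn]
        calc 3 * p ^ i ≤ p * p ^ i := Nat.mul_le_mul_right _ hp3
          _ = p ^ (i + 1) := by ring
          _ ≤ p ^ n := Nat.pow_le_pow_right (by omega) hlt
      have h4 : Nat.card xh.ker * Nat.card xh.range * Nat.card (Wp C H e) ≤
          3 * Nat.card (Wp C H e) * Nat.card (Wp C H e) :=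
        Nat.mul_le_mul_right _ (Nat.mul_le_mul hg3 (by omega))
      have h5' : 3 * (3 * Nat.card (Wp C H e) * Nat.card (Wp C H e)) ≤ q * q := by
        rw [show 3 * (3 * Nat.card (Wp C H e) * Nat.card (Wp C H e)) =
          (3 * Nat.card (Wp C H e)) * (3 * Nat.card (Wp C H e)) by ring]
        exact Nat.mul_le_mul h3w h3w
      have h9 : 3 * 3 ≤ q * q := Nat.mul_le_mul hq hq
      rw [pow_two] at hb
      omega
    rw [hwq] at hb
    have hgr : q ≤ Nat.card xh.ker * Nat.card xh.range := by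
      by_contra hh
      push Not at hh
      have h6 := Nat.mul_le_mul_right q (Nat.le_sub_one_of_lt hh)
      have h7 : (q - 1) * q + q = q * q := by
        calc _ = (q - 1 + 1) * q := by ring
          _ = q * q := by rw [Nat.sub_add_cancel (by omega : 1 ≤ q)]
      rw [pow_two] at hb
      omega
    have hg' : Nat.card xh.ker = 3 := by
      rcases (Nat.dvd_prime Nat.prime_three).1 hg.1 with h1 | h1
      · rw [h1, one_mul] at hgr
        have := Nat.le_of_dvd (by omega) hr1
        omega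
      · exact h1
    exact ⟨hwq, _, _, hA, hg', hr1, hg' ▸ hg.2, hg' ▸ hgr⟩
  -- involutions
  have hHeven : 2 ∣ Nat.card H := by
    rw [card_H C p H f hbig]
    refine Dvd.dvd.mul_right ?_ _
    obtain ⟨n, hn, hqn⟩ := exists_pow C p
    have : Odd q := hqn ▸ ((Fact.out : p.Prime).odd_of_ne_two (p_odd C p h2)).pow
    have := (this.pow (n := 3)).add_one
    exact this.two_dvd
  haveI : Fact (Nat.Prime 2) := ⟨Nat.prime_two⟩
  obtain ⟨j, hj⟩ := exists_prime_orderOf_dvd_card' 2 hHeven
  have hjj : j * j = 1 := by rw [← pow_two, ← hj]; exact pow_orderOf_eq_one j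
  obtain ⟨x, hx⟩ := exists_fixed_pt C j.1 (congrArg Subtype.val hjj)
  obtain ⟨f', hf'⟩ := exists_fr_pt C x
  have hjf : j ∈ stabilizer H f'.pt := by rw [mem_stabilizer_iff, hf']; exact hx
  have hA' : (-1 : Fˣ) ∈ mults C H f' := by
    refine ⟨⟨j, hjf⟩, ?_⟩
    set α := chi C H f' ⟨j, hjf⟩
    have h3 : ((α : F) - 1) * ((α : F) + 1) = 0 := by
      have h4 := congrArg Units.val ((map_mul (chi C H f') ⟨j, hjf⟩ ⟨j, hjf⟩).symm.trans
        ((congrArg (chi C H f') (Subtype.ext hjj)).trans (map_one _)))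
      rw [Units.val_mul, Units.val_one] at h4
      linear_combination h4
    rcases mul_eq_zero.1 h3 with e0 | e0
    · exfalso
      have hv := chi_spec C H f' ⟨j, hjf⟩
      rw [show (chi C H f' ⟨j, hjf⟩ : F) = 1 from sub_eq_zero.1 e0, one_smul] at hv
      have hd := orderOf_dvd_natCard (⟨j, hv⟩ : rad H f')
      rw [← Subgroup.orderOf_coe, hj] at hd
      have := (rad_odd C H p h2 f').not_two_dvd_nat
      exact this hd
    · exact Units.ext (by rw [Units.val_neg, Units.val_one]; linear_combination e0)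
  obtain ⟨e, k, a, hk0, hkq, hA, hcases⟩ := line_bound C H p hbig h2 hA' hZ
  obtain ⟨-, r, g, hgr, hg3, hr, h3q, hqr⟩ := shape e
  subst hg3
  have hk6 : k ∣ 6 := by
    have h1 : k ∣ 3 * (q - 1) := (Dvd.intro a (hA.symm.trans hgr)).trans (Nat.mul_dvd_mul_left 3 hr)
    have h2' := Nat.dvd_sub (hkq.mul_left 3) h1
    rwa [show 3 * (q + 1) - 3 * (q - 1) = 6 by omega] at h2'
  have hk6' := Nat.le_of_dvd (by norm_num) hk6
  have h6a : 3 * r ≤ 6 * a := by rw [← hgr, hA]; exact Nat.mul_le_mul_right _ hk6'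
  obtain ⟨m, hm⟩ := hr
  have hm2 : m ≤ 2 := by
    by_contra hh
    have := Nat.mul_le_mul_left r (show 3 ≤ m by omega)
    omega
  have hm0 : m ≠ 0 := fun e0 => by rw [e0, mul_zero] at hm; omega
  obtain ⟨n, hn, hqn⟩ := exists_pow C p
  obtain ⟨o, ho⟩ : Odd q := hqn ▸ ((Fact.out : p.Prime).odd_of_ne_two (p_odd C p h2)).pow
  have hrq : q - 1 ≤ 2 * r := by rw [hm]; rw [mul_comm 2]; exact Nat.mul_le_mul_left r hm2
  have hq11 : 11 ≤ q := by omega
  have ha3 : 3 ≤ a := by omega
  have hq19 : q ≤ 19 := by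
    by_contra hh
    have : 21 * 3 ≤ (q + 1) * a := Nat.mul_le_mul (by omega) ha3
    omega
  obtain rfl : q = 11 := by
    rcases (show q = 11 ∨ q = 17 by omega) with h' | h'
    · exact h'
    · subst h'; omega
  have ha5 : a = 5 := by omega
  have hA30 : Nat.card (mults C H e) = 30 := by
    have hr10 : r = 5 ∨ r = 10 := by
      interval_cases m <;> omega
    rcases hr10 with rfl | rfl
    · exfalso
      obtain ⟨g', hg'⟩ := hA'
      haveI := transitive C p H hbig
      -- the multiplier group is even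
      have h2A : 2 ∣ Nat.card (mults C H f') := by
        have hne1 : (-1 : Fˣ) ≠ 1 := fun e0 => h2 (by
          have := congrArg Units.val e0
          rw [Units.val_neg, Units.val_one] at this
          linear_combination -this)
        have ho : orderOf (-1 : Fˣ) = 2 := orderOf_eq_prime (by simp) hne1
        have := orderOf_dvd_natCard (⟨-1, ⟨g', hg'⟩⟩ : mults C H f')
        rwa [← Subgroup.orderOf_coe, ho] at this
      have e1 := card_H C p H e hbig
      have e2 := card_H C p H f' hbig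
      rw [(shape e).1, hZ e, AddSubgroup.card_bot, hgr] at e1
      rw [(shape f').1, hZ f', AddSubgroup.card_bot, e1] at e2
      simp only [mul_one] at e2
      omega
    · rw [hgr]
  have hH : Nat.card H = 439560 := by
    rw [card_H C p H e hbig, (shape e).1, hZ e, AddSubgroup.card_bot, hA30]
    norm_num
  refine ⟨rfl, hH, fun e' => ?_⟩
  have := card_H C p H e' hbig
  rw [hH, (shape e').1, hZ e', AddSubgroup.card_bot] at this
  simp only [mul_one] at this
  omega

omit h2 in
/-- In characteristic two there are transvections. -/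
theorem Z0_ne_bot_even {f : Fr B} (h2 : (2 : F) = 0) (hR : rad H f ≠ ⊥) : Z0 H f ≠ ⊥ := by
  intro hZ
  refine hR (Subgroup.eq_bot_of_card_eq _ ?_)
  have hW : Wp C H f = ⊥ := by
    rw [AddSubgroup.eq_bot_iff_forall]
    intro t ⟨c, hc⟩
    have h1 := hc.mul hc f.vv (by simp [f.wv C]) (by simp [f.vw])
    rw [← add_smul, show t + t = 0 by linear_combination t * h2, zero_smul] at h1
    have h3 : σ t * t ∈ Z0 H f := by
      rw [mem_Z0]
      convert h1 using 1
      simp only [map_smulₛₗ, map_smul, LinearMap.smul_apply, smul_eq_mul, f.ww, RingHom.id_apply]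
      linear_combination (σ t * t - c) * h2
    rw [hZ, AddSubgroup.mem_bot, mul_eq_zero] at h3
    exact h3.elim (fun e => by_contra fun ht => sigma_ne_zero C ht e) id
  rw [card_rad C H f, hW, hZ, AddSubgroup.card_bot, one_mul]

end CfsgLib.KnownA.MinIndexU3
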