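import Cfsg.Agent.Lib.KnownA.MinIndexU3.Frame

/-!
# Point stabilisers in subgroups of a three-dimensional special unitary group
-/

set_option autoImplicit false
set_option linter.unusedSectionVars false

open Module MulAction CfsgLib.Classical CfsgLib.Classical.SUUnipotent
open scoped LinearAlgebra.Projectivization

namespace CfsgLib.KnownA.MinIndexU3

variable {F : Type*} [Field F] [Fintype F] {V : Type*} [AddCommGroup V] [Module F V] [FiniteDimensional F V]
  {σ : F →+* F} {B : V →ₛₗ[σ] V →ₗ[F] F}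

/-- The subgroup of isometries underlying a subgroup of the special group. -/
noncomputable abbrev Hi (H : Subgroup (sIsom B)) : Subgroup (isomGroup B) := H.map (sIsom B).subtype

theorem he_iff {H : Subgroup (sIsom B)} {a ω : V} {c : F} :
    HE (Hi H) a ω c ↔ ∃ g : H, IsE g.1.1 a ω c := by
  constructor
  · rintro ⟨g, ⟨k, hk, rfl⟩, hg⟩
    exact ⟨⟨k, hk⟩, hg⟩
  · rintro ⟨g, hg⟩
    exact ⟨g.1.1, ⟨g.1, g.2, rfl⟩, hg⟩

theorem det_eq_one (g : sIsom B) : idet B g.1 = 1 := MonoidHom.mem_ker.1 g.2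

/-- The point of a frame. -/
noncomputable def Fr.pt (f : Fr B) : IsoPts B := isoPt B f.v_ne_zero f.vv

variable [Finite V]

instance finite_isomGroup : Finite (isomGroup B) :=
  Finite.of_injective (fun g => (g.1 : V → V)) fun _ _ e => Subtype.ext (LinearEquiv.ext (congrFun e))

theorem isE_shift {g : isomGroup B} {a ω : V} {θ c : F} (hg : IsE g a (ω + θ • a) c) :
    IsE g a ω (c + θ - σ θ) := fun y => by
  rw [hg y]
  simp only [map_add, map_smulₛₗ, LinearMap.add_apply, LinearMap.smul_apply, smul_eq_mul]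
  module

variable {q : ℕ} (C : U3 B q)
include C

theorem smul_pt_iff (g : sIsom B) {u w : V} (hu : u ≠ 0) (huu : B u u = 0) (hw : w ≠ 0) (hww : B w w = 0) :
    g • isoPt B hu huu = isoPt B hw hww ↔ ∃ a : F, g.1.1 u = a • w := by
  refine ⟨fun e => ?_, fun ⟨a, ha⟩ => smul_isoPt_eq g hu huu hw hww ha⟩
  have e' := congrArg Subtype.val e
  change g • Projectivization.mk F u hu = Projectivization.mk F w hw at e'
  rw [sIsom_smul_mk, Projectivization.mk_eq_mk_iff'] at e'
  obtain ⟨a, ha⟩ := e'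
  exact ⟨a, ha.symm⟩

theorem exists_fr_pt (p : IsoPts B) : ∃ f : Fr B, f.pt = p := by
  obtain ⟨v, hv, hv0, rfl⟩ := isoPt_surjective p
  obtain ⟨f, hf⟩ := exists_fr C hv hv0
  exact ⟨f, by subst hf; rfl⟩

/-- The isotropic points number `q ^ 3 + 1`. -/
theorem card_isoPts : Nat.card (IsoPts B) = q ^ 3 + 1 := by
  classical
  let S := {v : V // v ≠ 0 ∧ B v v = 0}
  have e : Nat.card S = Nat.card (IsoPts B × Fˣ) := by
    refine (Nat.card_eq_of_bijective (fun pa : IsoPts B × Fˣ =>
      (⟨(pa.2 : F) • pa.1.1.rep, smul_ne_zero pa.2.ne_zero pa.1.1.rep_nonzero,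
        (self_smul_eq_zero pa.2.ne_zero _).2 pa.1.2⟩ : S)) ⟨?_, ?_⟩).symm
    · rintro ⟨p, a⟩ ⟨p', a'⟩ e
      have e' : (a : F) • p.1.rep = (a' : F) • p'.1.rep := congrArg Subtype.val e
      have hp : p = p' := by
        refine Subtype.ext ?_
        rw [← Projectivization.mk_rep p.1, ← Projectivization.mk_rep p'.1, Projectivization.mk_eq_mk_iff']
        exact ⟨(a : F)⁻¹ * a', by rw [← smul_smul, ← e', inv_smul_smul₀ a.ne_zero]⟩
      subst hp
      exact Prod.ext rfl (Units.ext (smul_left_injective F p.1.rep_nonzero e'))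
    · rintro ⟨v, hv, hv0⟩
      obtain ⟨a, ha⟩ := Projectivization.exists_smul_eq_mk_rep F v hv
      refine ⟨(isoPt B hv hv0, a⁻¹), Subtype.ext ?_⟩
      change ((a⁻¹ : Fˣ) : F) • (Projectivization.mk F v hv).rep = v
      rw [← ha, Units.smul_def, Units.val_inv_eq_inv_val, inv_smul_smul₀ a.ne_zero]
  have h1 : Nat.card {v : V // B v v = 0} = Nat.card S + 1 := by
    let e0 : {v : V // B v v = 0} ≃ Option S :=
      { toFun := fun v => if h : v.1 = 0 then none else some ⟨v.1, h, v.2⟩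
        invFun := fun o => o.elim ⟨0, by simp⟩ fun s => ⟨s.1, s.2.2⟩
        left_inv := fun v => by by_cases h : v.1 = 0 <;> simp [h]; exact Subtype.ext h.symm
        right_inv := fun o => by
          rcases o with - | s
          · simp
          · simp [s.2.1] }
    rw [Nat.card_congr e0, Finite.card_option]
  have hq := two_le_of_card_sq C.card
  have h2 := (lengthCount_closed C.card C.frob C.herm.conj 3).2
  rw [← C.dim, ← card_length_eq C.herm C.sep, h1, C.dim, e, Nat.card_prod, Nat.card_units,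
    Nat.card_eq_fintype_card (α := F), C.card] at h2
  have h3 : ((q ^ 2 - 1 : ℕ) : ℤ) = (q : ℤ) ^ 2 - 1 := by
    have : 1 ≤ q ^ 2 := Nat.one_le_pow _ _ (by omega)
    push_cast [Nat.cast_sub this]
    ring
  push_cast [h3] at h2
  have hq' : (q : ℤ) * ((q : ℤ) ^ 2 - 1) ≠ 0 := by
    have : (4 : ℤ) ≤ (q : ℤ) ^ 2 := by exact_mod_cast (show 4 ≤ q ^ 2 by nlinarith)
    refine mul_ne_zero (by exact_mod_cast (by omega : q ≠ 0)) (by omega)
  exact Int.natCast_inj.1 (mul_left_cancel₀ hq' (by push_cast; linear_combination h2))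

/-- The order of the special group. -/
theorem card_sIsom : Nat.card (sIsom B) = q ^ 3 * (q ^ 2 - 1) * (q ^ 3 + 1) := by
  classical
  have h := C.herm
  let δ : isomGroup B →* Fˣ := (idet B).toHomUnits
  have hk : δ.ker = sIsom B := by
    ext g
    rw [MonoidHom.mem_ker, Units.ext_iff]
    exact Iff.rfl
  have hr : δ.range = (normHom σ).ker := by
    refine le_antisymm ?_ fun u hu => ?_
    · rintro _ ⟨g, rfl⟩
      exact MonoidHom.mem_ker.2 (Units.ext (h.idet_norm C.sep g))
    · have htop : NondegOn B (⊤ : Submodule F V) := nondegOn_iff.2 fun x _ hx => C.sep x fun y => hx y trivial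
      obtain ⟨r, -, hr0, hrr⟩ := h.exists_isotropic htop (by rw [finrank_top, C.dim]; omega)
      obtain ⟨s, -, hs, hrs⟩ := h.exists_partner htop trivial hr0 hrr
      obtain ⟨g, hg, -⟩ := h.exists_det_torus C.sep hrr hs hrs (δ := (u : F))
        (congrArg Units.val (MonoidHom.mem_ker.1 hu))
      exact ⟨g, Units.ext hg⟩
  have h1 := δ.ker.card_mul_index
  rw [Subgroup.index_ker, hk, hr, (frob_cards C.card C.frob h.conj).2,
    card_isom_herm_closed C.card C.frob h C.sep, C.dim] at h1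
  refine Nat.eq_of_mul_eq_mul_right (show 0 < q + 1 by omega) (h1.trans ?_)
  simp only [Finset.prod_range_succ, Finset.prod_range_zero, one_mul]
  rw [if_pos (by decide : Even 0), if_neg (by decide : ¬ Even 1), if_pos (by decide : Even 2)]
  norm_num
  ring

variable (H : Subgroup (sIsom B)) (f : Fr B)

theorem mem_stab_iff {g : H} : g ∈ stabilizer H f.pt ↔ ∃ a : F, g.1.1.1 f.v = a • f.v :=
  smul_pt_iff C g.1 f.v_ne_zero f.vv f.v_ne_zero f.vv

/-- The multiplier of the isotropic vector on the stabiliser of a point. -/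
noncomputable def chi : stabilizer H f.pt →* Fˣ :=
  MonoidHom.toHomUnits
    { toFun := fun g => B f.s (g.1.1.1.1 f.v)
      map_one' := by simpa using f.sv C
      map_mul' := fun g k => by
        obtain ⟨a, ha⟩ := (mem_stab_iff C H f).1 g.2
        obtain ⟨b, hb⟩ := (mem_stab_iff C H f).1 k.2
        change B f.s (g.1.1.1.1 (k.1.1.1.1 f.v)) = _
        rw [hb, map_smul, ha, map_smul, map_smul]
        simp [f.sv C]; ring }

theorem chi_spec (g : stabilizer H f.pt) : g.1.1.1.1 f.v = (chi C H f g : F) • f.v := by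
  obtain ⟨a, ha⟩ := (mem_stab_iff C H f).1 g.2
  change _ = B f.s (g.1.1.1.1 f.v) • f.v
  rw [ha, map_smul, f.sv C, smul_eq_mul, mul_one]

/-- The multipliers. -/
noncomputable def mults : Subgroup Fˣ := (chi C H f).range

omit C in
/-- The unipotent radical. -/
def rad : Subgroup H where
  carrier := {g | g.1.1.1 f.v = f.v}
  one_mem' := rfl
  mul_mem' {a b} ha hb := by
    change a.1.1.1 (b.1.1.1 f.v) = f.v
    rw [hb, ha]
  inv_mem' {a} ha := by
    change a.1.1.1.symm f.v = f.v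
    rw [LinearEquiv.symm_apply_eq, ha]

omit C in
theorem mem_rad {g : H} : g ∈ rad H f ↔ g.1.1.1 f.v = f.v := Iff.rfl

theorem rad_le_stab : rad H f ≤ stabilizer H f.pt := fun g hg =>
  (mem_stab_iff C H f).2 ⟨1, by rw [one_smul]; exact hg⟩

/-- The parameters of the transvections at the point. -/
noncomputable def Z0 : AddSubgroup F where
  carrier := {c | HE (Hi H) f.v 0 c}
  zero_mem' := he_one
  add_mem' {a b} ha hb := by
    have := ha.mul hb f.vv (by simp) (by simp)
    simpa using this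
  neg_mem' {a} ha := by
    have := ha.inv f.vv (map_zero _) (by simp)
    simpa using this

omit C in
theorem mem_Z0 {c : F} : c ∈ Z0 H f ↔ HE (Hi H) f.v 0 c := Iff.rfl

/-- The translation parts at the point. -/
noncomputable def Wp : AddSubgroup F where
  carrier := {t | ∃ c, HE (Hi H) f.v (t • f.w) c}
  zero_mem' := ⟨0, by rw [zero_smul]; exact he_one⟩
  add_mem' {a b} := fun ⟨c, hc⟩ ⟨d, hd⟩ => ⟨_, by
    rw [add_smul]
    exact hc.mul hd f.vv (by simp [f.wv C]) (by simp [f.vw])⟩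
  neg_mem' {a} := fun ⟨c, hc⟩ => ⟨_, by
    rw [neg_smul]
    exact hc.inv f.vv (by simp [f.vw]) (by simp [f.wv C])⟩

theorem mem_Wp {t : F} : t ∈ Wp C H f ↔ ∃ c, HE (Hi H) f.v (t • f.w) c := Iff.rfl

theorem isE_apply_s {g : isomGroup B} {t c : F} (hg : IsE g f.v (t • f.w) c) :
    g.1 f.s = f.s + t • f.w + c • f.v := by
  rw [hg f.s, f.vs, map_smulₛₗ, LinearMap.smul_apply, f.ws C]
  simp

theorem isE_fix {g : isomGroup B} {t c : F} (hg : IsE g f.v (t • f.w) c) : g.1 f.v = f.v := by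
  rw [hg f.v, f.vv, map_smulₛₗ, LinearMap.smul_apply, f.wv C]
  simp

theorem isE_params {g : isomGroup B} {t c : F} (hg : IsE g f.v (t • f.w) c) :
    t = B f.w (g.1 f.s) ∧ c = B f.s (g.1 f.s) := by
  rw [isE_apply_s C f hg]
  simp [map_add, map_smul, f.ws C, f.ww, f.wv C, f.ss, f.sw, f.sv C]

theorem isE_trace {g : isomGroup B} {t c : F} (hg : IsE g f.v (t • f.w) c) : c + σ c = -(σ t * t) := by
  have h := g.2 f.s f.s
  rw [isE_apply_s C f hg, f.ss] at h
  simp [map_add, map_smulₛₗ, f.vs, f.vv, f.vw, f.ws C, f.ww, f.wv C, f.ss, f.sw, f.sv C] at h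
  linear_combination h

theorem Z0_trace {c : F} (hc : c ∈ Z0 H f) : c + σ c = 0 := by
  obtain ⟨g, -, hg⟩ := hc
  have := isE_trace C f (t := 0) (by rwa [zero_smul])
  simpa using this

theorem rad_isE (g : rad H f) : ∃ t c : F, IsE g.1.1.1 f.v (t • f.w) c :=
  f.isE_of_fix C g.2 (det_eq_one _)

theorem wp_trace {t c : F} (hc : HE (Hi H) f.v (t • f.w) c) : c + σ c = -(σ t * t) := by
  obtain ⟨g, -, hg⟩ := hc
  exact isE_trace C f hg

/-- Commutators give transvections. -/
theorem comm_mem_Z0 {t u : F} (ht : t ∈ Wp C H f) (hu : u ∈ Wp C H f) : σ u * t - σ t * u ∈ Z0 H f := by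
  obtain ⟨c, hc⟩ := ht
  obtain ⟨d, hd⟩ := hu
  have := he_comm C.herm f.vv (ω := t • f.w) (ω' := u • f.w) ⟨by simp [f.vw], c, hc⟩ ⟨by simp [f.vw], d, hd⟩
  rw [mem_Z0]
  convert this using 1
  simp only [map_smulₛₗ, map_smul, LinearMap.smul_apply, smul_eq_mul, f.ww, RingHom.id_apply]
  ring

/-- The stabiliser acts on the transvection parameters and on the translation parts. -/
theorem mults_act {α : Fˣ} (hα : α ∈ mults C H f) :
    (∀ t ∈ Wp C H f, σ (α : F) * σ (α : F) / (α : F) * t ∈ Wp C H f) ∧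
      ∀ c ∈ Z0 H f, (α : F) * σ (α : F) * c ∈ Z0 H f := by
  obtain ⟨g, rfl⟩ := hα
  have hv := chi_spec C H f g
  set a := ((chi C H f g : Fˣ) : F)
  obtain ⟨-, -, e2, e3⟩ := f.shape C hv (det_eq_one g.1.1)
  have hgm : g.1.1.1 ∈ Hi H := ⟨g.1.1, g.1.2, rfl⟩
  refine ⟨fun t ⟨c, hc⟩ => ?_, fun c hc => ?_⟩
  · have h1 := hc.conj hgm
    rw [hv, he_smul_iff C.herm, map_smul, f.expand C (g.1.1.1.1 f.w), e2, e3, zero_smul, add_zero] at h1
    obtain ⟨k, hk, hkE⟩ := h1
    refine ⟨_, k, hk, isE_shift (θ := σ a * (t * B f.s (g.1.1.1.1 f.w))) (c := a * σ a * c) ?_⟩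
    convert hkE using 1
    rw [smul_add, smul_add, smul_smul, smul_smul, smul_smul, smul_smul, add_comm]
    congr 2 <;> ring
  · have h1 := HE.conj hgm hc
    rw [hv, map_zero, he_smul_iff C.herm, smul_zero] at h1
    exact h1

/-- The translation map. -/
noncomputable def trHom : rad H f →* Multiplicative F where
  toFun g := Multiplicative.ofAdd (B f.w (g.1.1.1.1 f.s))
  map_one' := by
    change Multiplicative.ofAdd (B f.w f.s) = 1
    rw [f.ws C]; rfl
  map_mul' g k := by
    obtain ⟨t, c, hg⟩ := rad_isE C H f g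
    obtain ⟨u, d, hk⟩ := rad_isE C H f k
    have h := hg.mul hk f.vv (by simp [f.wv C]) (by simp [f.vw])
    rw [← add_smul] at h
    change Multiplicative.ofAdd (B f.w ((g.1.1.1 * k.1.1.1).1 f.s)) = _
    rw [← (isE_params C f h).1, ← (isE_params C f hg).1, ← (isE_params C f hk).1]
    rfl

theorem card_rad : Nat.card (rad H f) = Nat.card (Wp C H f) * Nat.card (Z0 H f) := by
  classical
  have h := (trHom C H f).ker.card_mul_index
  rw [Subgroup.index_ker, mul_comm] at h
  rw [← h]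
  congr 1
  · refine Nat.card_congr (Multiplicative.toAdd.subtypeEquiv fun x => ⟨?_, fun hx => ?_⟩)
    · rintro ⟨g, rfl⟩
      obtain ⟨t, c, hg⟩ := rad_isE C H f g
      exact ⟨c, g.1.1.1, ⟨g.1.1, g.1.2, rfl⟩, by
        change IsE _ _ (B f.w (g.1.1.1.1 f.s) • f.w) c
        rwa [← (isE_params C f hg).1]⟩
    · obtain ⟨c, hc⟩ := hx
      obtain ⟨g, hg⟩ := he_iff.1 hc
      exact ⟨⟨g, isE_fix C f hg⟩, by
        change Multiplicative.ofAdd (B f.w (g.1.1.1 f.s)) = x
        rw [← (isE_params C f hg).1]; rfl⟩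
  · have hz : ∀ g : (trHom C H f).ker, IsE g.1.1.1.1 f.v 0 (B f.s (g.1.1.1.1.1 f.s)) := fun g => by
      obtain ⟨t, c, hg⟩ := rad_isE C H f g.1
      have e : B f.w (g.1.1.1.1.1 f.s) = 0 := congrArg Multiplicative.toAdd (MonoidHom.mem_ker.1 g.2)
      rw [← (isE_params C f hg).2]
      rwa [(isE_params C f hg).1.trans e, zero_smul] at hg
    refine Nat.card_eq_of_bijective (fun g => (⟨_, g.1.1.1.1, ⟨g.1.1.1, g.1.1.2, rfl⟩, hz g⟩ : Z0 H f))
      ⟨fun g k e => ?_, fun ⟨c, hc⟩ => ?_⟩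
    · have e' : B f.s (g.1.1.1.1.1 f.s) = B f.s (k.1.1.1.1.1 f.s) := congrArg Subtype.val e
      refine Subtype.ext (Subtype.ext (Subtype.ext (Subtype.ext ?_)))
      have := (hz g).unique (e' ▸ hz k)
      exact this
    · obtain ⟨g, hg⟩ := he_iff.1 ((mem_Z0 H f).1 hc)
      have hg' : IsE g.1.1 f.v ((0 : F) • f.w) c := by rwa [zero_smul]
      refine ⟨⟨⟨g, isE_fix C f hg'⟩, MonoidHom.mem_ker.2 ?_⟩, Subtype.ext (isE_params C f hg').2.symm⟩
      change Multiplicative.ofAdd (B f.w (g.1.1.1 f.s)) = 1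
      rw [← (isE_params C f hg').1]; rfl

theorem card_stab : Nat.card (stabilizer H f.pt) = Nat.card (mults C H f) * Nat.card (rad H f) := by
  have h := (chi C H f).ker.card_mul_index
  rw [Subgroup.index_ker, mul_comm] at h
  rw [← h]
  congr 1
  have e : (chi C H f).ker = (rad H f).subgroupOf (stabilizer H f.pt) := by
    ext g
    rw [MonoidHom.mem_ker, Subgroup.mem_subgroupOf, mem_rad, chi_spec C H f g]
    refine ⟨fun e => by rw [e, Units.val_one, one_smul], fun e => Units.ext ?_⟩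
    exact smul_left_injective F f.v_ne_zero (e.trans (one_smul F f.v).symm)
  rw [e]
  exact Nat.card_congr (Subgroup.subgroupOfEquivOfLe (rad_le_stab C H f)).toEquiv

/-- A large subgroup has large point stabilisers. -/
theorem stab_large (hbig : (q ^ 3 + 1) * (q ^ 2 - 1) ≤ Nat.card H) (p : IsoPts B) :
    q ^ 2 - 1 ≤ Nat.card (stabilizer H p) ∧
      (Nat.card (orbit H p) = q ^ 3 + 1 → Nat.card H = (q ^ 3 + 1) * Nat.card (stabilizer H p)) := by
  have h1 := (stabilizer H p).card_mul_index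
  rw [MulAction.index_stabilizer, ← Nat.card_coe_set_eq] at h1
  have hle : Nat.card (orbit H p) ≤ q ^ 3 + 1 := card_isoPts C ▸ Nat.card_le_card_of_injective Subtype.val Subtype.val_injective
  refine ⟨Nat.le_of_mul_le_mul_left (hbig.trans ?_) (Nat.succ_pos (q ^ 3)), fun e => by rw [← h1, e, mul_comm]⟩
  rw [← h1, mul_comm (Nat.card (stabilizer H p))]
  exact Nat.mul_le_mul_right _ hle

theorem large_of_index (hi : H.index ≤ q ^ 3) : (q ^ 3 + 1) * (q ^ 2 - 1) ≤ Nat.card H := by
  have hq := two_le_of_card_sq C.card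
  refine Nat.le_of_mul_le_mul_right ?_ (show 0 < q ^ 3 by positivity)
  calc (q ^ 3 + 1) * (q ^ 2 - 1) * q ^ 3 = Nat.card (sIsom B) := by rw [card_sIsom C]; ring
    _ = Nat.card H * H.index := (Subgroup.card_mul_index H).symm
    _ ≤ Nat.card H * q ^ 3 := Nat.mul_le_mul_left _ hi

end CfsgLib.KnownA.MinIndexU3
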