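import Cfsg.Agent.Lib.KnownA.MinIndexU3.EvenBound
import Cfsg.Agent.Lib.KnownA.MinIndexU3.NoTransv

/-!
# The three orders left open by the counting arguments
-/

set_option autoImplicit false
set_option linter.unusedSectionVars false
set_option linter.style.haveILetI false

open Module MulAction CfsgLib.Classical CfsgLib.Classical.SUUnipotent

namespace CfsgLib.KnownA.MinIndexU3

/-- An element of prime order preserving a small non-empty set fixes a point of it. -/
theorem exists_fixed_of_small {G X : Type*} [Group G] [MulAction G X] [Finite X] {x : G} {r : ℕ} (hr : r.Prime)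
    (hx : x ^ r = 1) {S : Set X} (hne : S.Nonempty) (hS : ∀ s ∈ S, x • s ∈ S) (hc : Nat.card S < r) :
    ∃ s ∈ S, x • s = s := by
  obtain ⟨s, hs⟩ := hne
  refine ⟨s, hs, ?_⟩
  have hpow : ∀ n : ℕ, x ^ n • s ∈ S := fun n => by
    induction n with
    | zero => simpa using hs
    | succ n ih => rw [pow_succ', mul_smul]; exact hS _ ih
  obtain ⟨a, b, hab, he⟩ : ∃ a b : Fin r, a ≠ b ∧ x ^ (a : ℕ) • s = x ^ (b : ℕ) • s := by
    by_contra! hall
    have := Nat.card_le_card_of_injective (fun a : Fin r => (⟨x ^ (a : ℕ) • s, hpow a⟩ : S))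
      fun a b e => by_contra fun hab => hall a b hab (congrArg (fun t : S => (t : X)) e)
    rw [Nat.card_fin] at this
    exact absurd (this.trans_lt hc) (lt_irrefl _)
  -- a non-trivial power of `x` fixes `s`
  wlog hlt : (a : ℕ) < b generalizing a b
  · exact this b a hab.symm he.symm (lt_of_le_of_ne (not_lt.1 hlt) fun e => hab (Fin.ext e.symm))
  have h1 : x ^ ((b : ℕ) - a) • s = s := by
    apply MulAction.injective (x ^ (a : ℕ))
    change x ^ (a : ℕ) • (x ^ ((b : ℕ) - a) • s) = x ^ (a : ℕ) • s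
    rw [← mul_smul, ← pow_add, Nat.add_sub_cancel' hlt.le, he]
  have hcop : Nat.Coprime r ((b : ℕ) - a) := (Nat.Prime.coprime_iff_not_dvd hr).2 fun hd => by
    have := Nat.le_of_dvd (by omega) hd
    have := b.2
    omega
  have hmem : x ^ ((b : ℕ) - a) ∈ stabilizer G s := h1
  obtain ⟨m, hm⟩ := exists_pow_eq_self_of_coprime (x := x) (n := (b : ℕ) - a)
    (hcop.symm.coprime_dvd_right (orderOf_dvd_of_pow_eq_one hx))
  have := pow_mem hmem m
  rw [hm] at this
  exact this

variable {F : Type*} [Field F] [Fintype F] {V : Type*} [AddCommGroup V] [Module F V] [FiniteDimensional F V]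
  [Finite V] {σ : F →+* F} {B : V →ₛₗ[σ] V →ₗ[F] F} {q : ℕ} (C : U3 B q) (H : Subgroup (sIsom B))
include C

theorem trace_zero_card : Nat.card {a : F // a + σ a = 0} = q := by
  obtain ⟨c, hc0, hc⟩ := C.herm.conj.exists_trace_zero
  have hσc : σ c = -c := eq_neg_of_add_eq_zero_right hc
  refine Eq.trans ?_ (natCard_fixedField C)
  exact Nat.card_congr
    { toFun := fun a => ⟨a.1 / c, mem_fixedField.2 (by
        rw [map_div₀, hσc, eq_neg_of_add_eq_zero_right a.2, neg_div_neg_eq])⟩
      invFun := fun x => ⟨x.1 * c, by rw [map_mul, mem_fixedField.1 x.2, hσc]; ring⟩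
      left_inv := fun a => Subtype.ext (div_mul_cancel₀ _ hc0)
      right_inv := fun x => Subtype.ext (mul_div_cancel_right₀ _ hc0) }

/-- A line of a frame has at most `q + 1` isotropic points. -/
theorem card_line_le (e : Fr B) : Nat.card {x : IsoPts B // B e.w x.1.rep = 0} ≤ q + 1 := by
  classical
  rw [← trace_zero_card C, ← Finite.card_option]
  let φ : {x : IsoPts B // B e.w x.1.rep = 0} → Option {a : F // a + σ a = 0} := fun x =>
    if hc : B e.v x.1.1.rep = 0 then none else some ⟨B e.s x.1.1.rep / B e.v x.1.1.rep, by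
      have h0 := x.1.2
      rw [e.expand C x.1.1.rep, x.2, zero_smul, add_zero] at h0
      simp [map_add, map_smulₛₗ, e.vv, e.ss, e.vs, e.sv C] at h0
      have hσ := sigma_ne_zero C hc
      rw [map_div₀]
      field_simp
      linear_combination h0⟩
  refine Nat.card_le_card_of_injective φ fun x y hxy => Subtype.ext (Subtype.ext ?_)
  have hx := e.expand C x.1.1.rep
  have hy := e.expand C y.1.1.rep
  rw [x.2, zero_smul, add_zero] at hx
  rw [y.2, zero_smul, add_zero] at hy
  rw [← Projectivization.mk_rep x.1.1, ← Projectivization.mk_rep y.1.1, Projectivization.mk_eq_mk_iff']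
  by_cases hc : B e.v x.1.1.rep = 0 <;> by_cases hc' : B e.v y.1.1.rep = 0 <;>
    simp only [φ, dif_pos, dif_neg, hc, hc', not_false_eq_true, Option.some.injEq, Subtype.mk.injEq, reduceCtorEq] at hxy
  · rw [hc, zero_smul, add_zero] at hx
    rw [hc', zero_smul, add_zero] at hy
    have hb : B e.s y.1.1.rep ≠ 0 := fun e0 => y.1.1.rep_nonzero (by rw [hy, e0, zero_smul])
    exact ⟨B e.s x.1.1.rep / B e.s y.1.1.rep,
      calc (B e.s x.1.1.rep / B e.s y.1.1.rep) • y.1.1.rep
          = (B e.s x.1.1.rep / B e.s y.1.1.rep) • (B e.s y.1.1.rep • e.v) := congrArg _ hy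
        _ = B e.s x.1.1.rep • e.v := by rw [smul_smul, div_mul_cancel₀ _ hb]
        _ = x.1.1.rep := hx.symm⟩
  · refine ⟨B e.v x.1.1.rep / B e.v y.1.1.rep,
      calc (B e.v x.1.1.rep / B e.v y.1.1.rep) • y.1.1.rep
          = (B e.v x.1.1.rep / B e.v y.1.1.rep) • (B e.s y.1.1.rep • e.v + B e.v y.1.1.rep • e.s) :=
            congrArg _ hy
        _ = B e.s x.1.1.rep • e.v + B e.v x.1.1.rep • e.s := by
          rw [div_eq_div_iff hc hc'] at hxy
          match_scalars
          · field_simp
            linear_combination -hxy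
          · field_simp
        _ = x.1.1.rep := hx.symm⟩

variable {r : ℕ} (hr : r.Prime) (hbig : (q ^ 3 + 1) * (q ^ 2 - 1) ≤ Nat.card H)
  (hrH : ¬ r * (q ^ 3 + 1) ∣ Nat.card H) {x : H} (hx : orderOf x = r)
include hr hbig hrH hx

/-- The element fixes no isotropic point. -/
theorem no_fixed_point (z : IsoPts B) : x • z ≠ z := by
  intro hfix
  obtain ⟨p, hc⟩ := CharP.exists F
  haveI : Fact p.Prime := ⟨CharP.char_is_prime F p⟩
  haveI := transitive C p H hbig
  refine hrH ?_
  rw [(stab_large C H hbig z).2 (by rw [orbit_eq_univ H z, Nat.card_univ, card_isoPts C]), mul_comm r]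
  refine Nat.mul_dvd_mul_left _ ?_
  have := orderOf_dvd_natCard (⟨x, hfix⟩ : stabilizer H z)
  rwa [← Subgroup.orderOf_coe, hx] at this

/-- The element fixes no vector. -/
theorem no_fixed_vector (hrq : q + 1 < r) {w : V} (hw : w ≠ 0) (hfix : x.1.1.1 w = w) : False := by
  have h := C.herm
  by_cases hww : B w w = 0
  · refine no_fixed_point C H hr hbig hrH hx (isoPt B hw hww) ?_
    exact (smul_pt_iff C x.1 hw hww hw hww).2 ⟨1, by rw [one_smul]; exact hfix⟩
  obtain ⟨c, hc⟩ := h.exists_scaled hww (map_one σ)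
  set w₁ := c • w
  have hc0 : c ≠ 0 := fun e => by simp [w₁, e] at hc
  have hnd : NondegOn B (Submodule.span F {w}) := h.nondegOn_span_singleton hww
  have hP := nondegOn_perp C.sep hnd
  have hd := hnd.finrank_perp
  rw [finrank_span_singleton hw, C.dim] at hd
  obtain ⟨u, huP, hu0, huu⟩ := h.exists_isotropic hP (by omega)
  obtain ⟨s, hsP, hss, hus⟩ := h.exists_partner hP huP hu0 huu
  have hperp : ∀ {y : V}, y ∈ perp B (Submodule.span F {w}) → B w₁ y = 0 := fun {y} hy => by
    simp only [w₁, map_smulₛₗ, LinearMap.smul_apply, mem_perp_span.1 hy w rfl, smul_zero]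
  let e : Fr B := ⟨u, w₁, s, huu, hss, hus, hc, h.isRefl _ _ (hperp huP), h.isRefl _ _ (hperp hsP)⟩
  have hne : ({z : IsoPts B | B e.w z.1.rep = 0}).Nonempty := by
    obtain ⟨a, ha⟩ := Projectivization.exists_smul_eq_mk_rep F e.v e.v_ne_zero
    refine ⟨e.pt, ?_⟩
    change B e.w (Projectivization.mk F e.v e.v_ne_zero).rep = 0
    rw [← ha, Units.smul_def, map_smul, e.wv C, smul_zero]
  have hstab : ∀ z ∈ {z : IsoPts B | B e.w z.1.rep = 0}, x • z ∈ {z : IsoPts B | B e.w z.1.rep = 0} := by
    intro z hz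
    obtain ⟨a, ha⟩ := Projectivization.exists_smul_eq_mk_rep F (x.1.1.1 z.1.rep) (by simpa using z.1.rep_nonzero)
    have e1 : (x • z).1 = Projectivization.mk F (x.1.1.1 z.1.rep) (by simpa using z.1.rep_nonzero) := by
      change x.1 • z.1 = _
      conv_lhs => rw [← Projectivization.mk_rep z.1]
      rw [sIsom_smul_mk]
    change B e.w (x • z).1.rep = 0
    rw [e1, ← ha, Units.smul_def, map_smul, smul_eq_mul]
    have h3 : B w₁ (x.1.1.1 z.1.rep) = 0 := by
      have h4 : x.1.1.1 w₁ = w₁ := by simp only [w₁, map_smul, hfix]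
      rw [← h4, isomGroup_apply]
      exact hz
    exact mul_eq_zero_of_right _ h3
  obtain ⟨z, -, hz⟩ := exists_fixed_of_small (G := H) (X := IsoPts B) hr (by rw [← hx]; exact pow_orderOf_eq_one x)
    hne hstab (lt_of_le_of_lt (card_line_le C e) hrq)
  exact no_fixed_point C H hr hbig hrH hx z hz

/-- In odd characteristic an involution does not commute with the element. -/
theorem no_commute_odd (hrq : q + 1 < r) (h2 : (2 : F) ≠ 0) {j : H} (hj : orderOf j = 2) (hc : j * x = x * j) :
    False := by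
  obtain ⟨p, hcp⟩ := CharP.exists F
  haveI : Fact p.Prime := ⟨CharP.char_is_prime F p⟩
  have hjj : j * j = 1 := by rw [← pow_two, ← hj]; exact pow_orderOf_eq_one j
  obtain ⟨z, hz⟩ := exists_fixed_pt C j.1 (congrArg Subtype.val hjj)
  obtain ⟨f, rfl⟩ := exists_fr_pt C z
  have hjv : j.1.1.1 f.v = -f.v := by
    set α := chi C H f ⟨j, hz⟩
    have hv := chi_spec C H f ⟨j, hz⟩
    have h3 : ((α : F) - 1) * ((α : F) + 1) = 0 := by
      have h4 := congrArg Units.val ((map_mul (chi C H f) ⟨j, hz⟩ ⟨j, hz⟩).symm.trans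
        ((congrArg (chi C H f) (Subtype.ext hjj)).trans (map_one _)))
      rw [Units.val_mul, Units.val_one] at h4
      linear_combination h4
    rcases mul_eq_zero.1 h3 with e0 | e0
    · exfalso
      rw [show (chi C H f ⟨j, hz⟩ : F) = 1 from sub_eq_zero.1 e0, one_smul] at hv
      have hd := orderOf_dvd_natCard (⟨j, hv⟩ : rad H f)
      rw [← Subgroup.orderOf_coe, hj] at hd
      exact (rad_odd C H p h2 f).not_two_dvd_nat hd
    · rw [show (chi C H f ⟨j, hz⟩ : F) = -1 by linear_combination e0] at hv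
      exact hv.trans (neg_one_smul F f.v)
  obtain ⟨e, -, h1, hw, hs⟩ := exists_adapted C H h2 f hjj hjv
  obtain ⟨s, -, hs'⟩ := exists_fixed_of_small (G := H) (X := IsoPts B) hr (by rw [← hx]; exact pow_orderOf_eq_one x)
    (S := fixedBy (IsoPts B) j) ⟨f.pt, hz⟩ (fun s hs' => by
      change j • x • s = x • s
      rw [← mul_smul, hc, mul_smul, show j • s = s from hs'])
    (by rw [card_fix C H h2 h1 hw hs]; exact hrq)
  exact no_fixed_point C H hr hbig hrH hx s hs'

/-- In odd characteristic no element conjugates the element to its inverse. -/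
theorem no_inverse_odd (hrq : q + 1 < r) (h2 : (2 : F) ≠ 0) {g : H} (hc : g * x * g⁻¹ = x⁻¹) : False := by
  classical
  set X : Module.End F V := (x.1.1.1 : V →ₗ[F] V)
  set Y : Module.End F V := ((x⁻¹ : H).1.1.1 : V →ₗ[F] V)
  set G : Module.End F V := (g.1.1.1 : V →ₗ[F] V)
  set G' : Module.End F V := ((g⁻¹ : H).1.1.1 : V →ₗ[F] V)
  have hXY : X * Y = 1 := LinearMap.ext fun v => congrArg (fun k : H => k.1.1.1 v) (mul_inv_cancel x)
  have hGG : G * G' = 1 := LinearMap.ext fun v => congrArg (fun k : H => k.1.1.1 v) (mul_inv_cancel g)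
  have hY : G * X * G' = Y := LinearMap.ext fun v => congrArg (fun k : H => k.1.1.1 v) hc
  have hdX : LinearMap.det X = 1 := det_eq_one x.1
  have e1 : LinearMap.det (Y - 1) = LinearMap.det (X - 1) := by
    rw [show Y - 1 = G * (X - 1) * G' by rw [mul_sub, sub_mul, hY, mul_one, hGG], map_mul, map_mul,
      mul_comm (LinearMap.det G), mul_assoc, ← map_mul, hGG, map_one, mul_one]
  have e2 : LinearMap.det (X - 1) = -LinearMap.det (Y - 1) := by
    have e : X - 1 = (-1 : F) • (X * (Y - 1)) := by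
      rw [mul_sub, hXY, mul_one, neg_one_smul, neg_sub]
    rw [e, LinearMap.det_smul, map_mul, hdX, C.dim]
    ring
  rw [e1] at e2
  have h0 : LinearMap.det (X - 1) = 0 :=
    (mul_eq_zero.1 (show (2 : F) * LinearMap.det (X - 1) = 0 by linear_combination e2)).resolve_left h2
  obtain ⟨w, hw, hw0⟩ := Submodule.exists_mem_ne_zero_of_ne_bot (LinearMap.bot_lt_ker_of_det_eq_zero h0).ne'
  exact no_fixed_vector C H hr hbig hrH hx hrq hw0 (sub_eq_zero.1 (LinearMap.mem_ker.1 hw))

omit hr hbig hrH in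
/-- An involution normalising a group of prime order centralises or inverts it. -/
theorem involution_normalizer [Fact r.Prime] {j : H} (hj : orderOf j = 2)
    (hn : j ∈ Subgroup.normalizer ((Subgroup.zpowers x : Subgroup H) : Set H)) :
    j * x = x * j ∨ j * x * j⁻¹ = x⁻¹ := by
  have hjj : j * j = 1 := by rw [← pow_two, ← hj]; exact pow_orderOf_eq_one j
  obtain ⟨k, hk⟩ := Subgroup.mem_zpowers_iff.1
    ((Subgroup.mem_normalizer_iff.1 hn x).1 (Subgroup.mem_zpowers x))
  have h1 : x ^ (k * k - 1) = 1 := by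
    have e : j * (j * x * j⁻¹) * j⁻¹ = x ^ (k * k) := by
      rw [← hk, ← conj_zpow, ← hk, ← zpow_mul]
    rw [show j * (j * x * j⁻¹) * j⁻¹ = (j * j) * x * (j * j)⁻¹ by group, hjj] at e
    simp only [one_mul, inv_one, mul_one] at e
    rw [zpow_sub, zpow_one, ← e, mul_inv_cancel]
  have h2 : ((k * k - 1 : ℤ) : ZMod r) = 0 := by
    rw [ZMod.intCast_zmod_eq_zero_iff_dvd, ← hx]
    exact orderOf_dvd_iff_zpow_eq_one.2 h1
  push_cast at h2
  have h3 : ((k : ZMod r) - 1) * ((k : ZMod r) + 1) = 0 := by linear_combination h2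
  have key : ∀ a : ℤ, ((k : ℤ) - a : ZMod r) = 0 → x ^ k = x ^ a := fun a ha => by
    have : (r : ℤ) ∣ k - a := by
      rw [← ZMod.intCast_zmod_eq_zero_iff_dvd]; push_cast; exact ha
    rw [← hx] at this
    exact orderOf_dvd_sub_iff_zpow_eq_zpow.1 this
  rcases mul_eq_zero.1 h3 with e | e
  · left
    have := key 1 (by push_cast; exact e)
    rw [zpow_one, hk, mul_inv_eq_iff_eq_mul] at this
    exact this
  · right
    rw [← hk, key (-1) (by push_cast; linear_combination e), zpow_neg_one]

end CfsgLib.KnownA.MinIndexU3
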