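import Cfsg.Agent.Lib.KnownA.MinIndexU3.Local
import Cfsg.Agent.Lib.Classical.SUUnipotentThree

/-!
# Transvections in large subgroups: the full groups and the odd case
-/

set_option autoImplicit false
set_option linter.unusedSectionVars false

open Module MulAction CfsgLib.Classical CfsgLib.Classical.SUUnipotent

namespace CfsgLib.KnownA.MinIndexU3

variable {F : Type*} [Field F] [Fintype F] {V : Type*} [AddCommGroup V] [Module F V] [FiniteDimensional F V]
  [Finite V] {σ : F →+* F} {B : V →ₛₗ[σ] V →ₗ[F] F} {q : ℕ} (C : U3 B q) (H : Subgroup (sIsom B))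
include C

theorem bigFixed (hq : 3 ≤ q) : BigFixed σ := by
  have h := (frob_cards C.card C.frob C.herm.conj).1
  have : Nontrivial (fixedUnits σ) := Finite.one_lt_card_iff_nontrivial.1 (by omega)
  obtain ⟨u, hu⟩ := exists_ne (1 : fixedUnits σ)
  exact ⟨(u : Fˣ), u.2, Units.ne_zero _, fun e => hu (Subtype.ext (Units.ext e))⟩

theorem natCard_fixedField : Nat.card (fixedField σ) = q := by
  classical
  have h := (frob_cards C.card C.frob C.herm.conj).1
  have e : Nat.card (fixedField σ) = Nat.card (fixedUnits σ) + 1 := by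
    rw [← Finite.card_option]
    refine Nat.card_congr
      { toFun := fun x => if hx : (x : F) = 0 then none else some ⟨Units.mk0 x hx, mem_fixedField.1 x.2⟩
        invFun := fun o => o.elim 0 fun u => ⟨((u : Fˣ) : F), mem_fixedField.2 u.2⟩
        left_inv := fun x => by
          by_cases hx : (x : F) = 0
          · simp [hx]; exact Subtype.ext hx.symm
          · simp [hx]
        right_inv := fun o => by
          rcases o with - | u
          · simp
          · simp }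
  have := two_le_of_card_sq C.card
  omega

/-- A proper large subgroup contains no full transvection group. -/
theorem exists_not_mem_Z0 (hq : 3 ≤ q) (hbig : (q ^ 3 + 1) * (q ^ 2 - 1) ≤ Nat.card H) (hH : H ≠ ⊤) (f : Fr B) :
    ∃ c, c + σ c = 0 ∧ c ∉ Z0 H f := by
  obtain ⟨p, hc⟩ := CharP.exists F
  haveI : Fact p.Prime := ⟨CharP.char_is_prime F p⟩
  haveI := transitive C p H hbig
  by_contra! hall
  have hv : f.v ∈ Phi (Hi H) := ⟨f.vv, fun c hc => (mem_Z0 H f).1 (hall c hc)⟩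
  have hevery : ∀ u, B u u = 0 → u ∈ Phi (Hi H) := by
    intro u hu
    by_cases hu0 : u = 0
    · rw [hu0, ← zero_smul F f.v]
      exact Phi.smul C.herm hv 0
    obtain ⟨h, hh⟩ := exists_smul_eq H f.pt (isoPt B hu0 hu)
    obtain ⟨a, ha⟩ := (smul_pt_iff C h.1 f.v_ne_zero f.vv hu0 hu).1 hh
    have h1 := Phi.conj (H := Hi H) (W := h.1.1) ⟨h.1, h.2, rfl⟩ hv
    rw [ha] at h1
    have ha0 : a ≠ 0 := fun e => f.v_ne_zero (h.1.1.1.injective (by rw [ha, e, zero_smul, map_zero]))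
    have h2 := Phi.smul C.herm h1 a⁻¹
    rwa [inv_smul_smul₀ ha0] at h2
  have hT : tGroup B ≤ Hi H := (Subgroup.closure_le _).2 (by
    rintro g ⟨v, c, hv', hc, hg⟩
    obtain ⟨k, hk, hkE⟩ := (hevery v hv').2 c hc
    rwa [show g = k from Subtype.ext (LinearEquiv.ext fun x => by rw [hg, isE_zero_iff.1 hkE])])
  refine hH ((Subgroup.eq_top_iff' H).2 fun g => ?_)
  have hgT : g.1 ∈ tGroup B := (C.herm.sIsom_eq_tGroup C.sep fun _ => Or.inl (bigFixed C hq)).le g.2
  obtain ⟨k, hk, e⟩ := hT hgT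
  exact (Subtype.ext e : k = g) ▸ hk

/-- The elements which do not generate, in the sense of Dickson's lemma. -/
theorem bad_exponent {l : F} (hl0 : l ≠ 0) (hlσ : σ l = l)
    (hbad : (∃ S : Subfield F, l ∈ S ∧ ∃ x, σ x = x ∧ x ∉ S) ∨ (q = 9 ∧ l ^ 2 = -1)) :
    (q = 9 ∧ l ^ 4 = 1) ∨ ∃ a : ℕ, 0 < a ∧ (a + 1) * (a + 1) ≤ q ∧ l ^ a = 1 := by
  classical
  rcases hbad with ⟨S, hlS, x, hx, hxS⟩ | ⟨h9, h2⟩
  swap
  · exact Or.inl ⟨h9, by linear_combination (l ^ 2 - 1) * h2⟩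
  right
  set K := fixedField σ
  set T := S ⊓ K
  letI : Algebra T K := (Subfield.inclusion (inf_le_right : T ≤ K)).toAlgebra
  haveI : Fintype T := Fintype.ofFinite _
  haveI : Fintype K := Fintype.ofFinite _
  have hm := Module.card_eq_pow_finrank (K := T) (V := K)
  have hK : Fintype.card K = q := by rw [← Nat.card_eq_fintype_card, natCard_fixedField C]
  have hT : 1 < Fintype.card T := Fintype.one_lt_card
  have hlt : Fintype.card T < Fintype.card K := by
    refine Fintype.card_lt_of_injective_of_notMem (fun t : T => (⟨t.1, t.2.2⟩ : K))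
      (fun a b e => Subtype.ext (congrArg (fun k : K => (k : F)) e)) (b := ⟨x, mem_fixedField.2 hx⟩) ?_
    rintro ⟨t, ht⟩
    have e : t.1 = x := congrArg (fun k : K => (k : F)) ht
    exact hxS (e ▸ t.2.1)
  have hd : 2 ≤ finrank T K := by
    by_contra hd
    push Not at hd
    interval_cases hh : finrank T K <;> simp at hm <;> omega
  refine ⟨Fintype.card T - 1, by omega, ?_, ?_⟩
  · rw [Nat.sub_add_cancel hT.le, ← hK, hm, ← pow_two]
    exact Nat.pow_le_pow_right (by omega) hd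
  · have := FiniteField.pow_card_sub_one_eq_one (⟨l, hlS, mem_fixedField.2 hlσ⟩ : T)
      (fun e => hl0 (congrArg Subtype.val e))
    simpa using congrArg Subtype.val this

/-- In odd characteristic two transvections of a large proper subgroup have a bad product. -/
theorem bad_pair (hq : 3 ≤ q) (hbig : (q ^ 3 + 1) * (q ^ 2 - 1) ≤ Nat.card H) (hH : H ≠ ⊤) (h2 : (2 : F) ≠ 0)
    {a b : V} (ha : B a a = 0) (hb : B b b = 0) (hab : B a b ≠ 0) {c d : F} (hc0 : c ≠ 0) (hd0 : d ≠ 0)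
    (hc : c + σ c = 0) (hd : d + σ d = 0) (hca : HE (Hi H) a 0 c) (hdb : HE (Hi H) b 0 d) :
    (∃ S : Subfield F, c * d * (B a b * σ (B a b)) ∈ S ∧ ∃ x, σ x = x ∧ x ∉ S) ∨
      (q = 9 ∧ (c * d * (B a b * σ (B a b))) ^ 2 = -1) := by
  by_contra! hgood
  obtain ⟨hgen, hex⟩ := hgood
  have hσc : σ c = -c := eq_neg_of_add_eq_zero_right hc
  have hσd : σ d = -d := eq_neg_of_add_eq_zero_right hd
  obtain ⟨ζ, hζ⟩ := C.herm.conj.exists_norm_eq (a := d / c) (by rw [map_div₀, hσc, hσd, neg_div_neg_eq])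
  have hζ0 : ζ ≠ 0 := fun e => div_ne_zero hd0 hc0 (by rw [← hζ, e, zero_mul])
  have hcb : HE (Hi H) (ζ • b) 0 c := by
    rw [he_smul_iff C.herm, smul_zero, hζ, div_mul_cancel₀ _ hc0]
    exact hdb
  have hl : c * d * (B a b * σ (B a b)) = c * c * (B a (ζ • b) * σ (B a (ζ • b))) := by
    rw [map_smul, smul_eq_mul, map_mul]
    have : c * c * (ζ * σ ζ) = c * d := by rw [hζ]; field_simp
    linear_combination (-(B a b * σ (B a b))) * this
  have hall := all_of_dickson C.herm C.sep h2 ha (by rw [C.herm.smul_self, hb, mul_zero])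
    (by rw [map_smul, smul_eq_mul]; exact mul_ne_zero hζ0 hab) hca hcb hc hl
    (mul_ne_zero (mul_ne_zero hc0 hd0) (mul_ne_zero hab (sigma_ne_zero C hab))) hgen
    (fun h9 => hex (by rw [← h9, natCard_fixedField C]))
  have ha0 : a ≠ 0 := fun e => hab (by rw [e, map_zero, LinearMap.zero_apply])
  obtain ⟨f, hf⟩ := exists_fr C ha0 ha
  obtain ⟨x, hx, hxn⟩ := exists_not_mem_Z0 C H hq hbig hH f
  exact hxn ((mem_Z0 H f).2 (hf ▸ hall x hx))

/-- In odd characteristic some point carries no transvection. -/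
theorem odd_some_Z0_bot (hq : 3 ≤ q) (hbig : (q ^ 3 + 1) * (q ^ 2 - 1) ≤ Nat.card H) (hH : H ≠ ⊤)
    (h2 : (2 : F) ≠ 0) : ∃ f : Fr B, Z0 H f = ⊥ := by
  classical
  by_contra! hne
  have get : ∀ u, u ≠ 0 → B u u = 0 → ∃ c, c ≠ 0 ∧ c + σ c = 0 ∧ HE (Hi H) u 0 c := fun u hu huu => by
    obtain ⟨f, rfl⟩ := exists_fr C hu huu
    obtain ⟨⟨c, hc⟩, hc0⟩ := @exists_ne _ ((AddSubgroup.nontrivial_iff_ne_bot _).2 (hne f)) (0 : Z0 H f)
    exact ⟨c, fun e => hc0 (Subtype.ext e), Z0_trace C H f hc, (mem_Z0 H f).1 hc⟩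
  have h := C.herm
  obtain ⟨g, hg⟩ := IsCyclic.exists_generator (α := fixedUnits σ)
  have hord : orderOf ((g : Fˣ) : F) = q - 1 := by
    rw [orderOf_units, Subgroup.orderOf_coe, orderOf_eq_card_of_forall_mem_zpowers hg,
      (frob_cards C.card C.frob h.conj).1]
  set γ := ((g : Fˣ) : F)
  have hγσ : σ γ = γ := g.2
  obtain ⟨r, hr0, hrr⟩ : ∃ r, r ≠ 0 ∧ B r r = 0 := by
    obtain ⟨r, -, h1, h2'⟩ := h.exists_isotropic (nondegOn_iff.2 fun x _ hx => C.sep x fun y => hx y trivial :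
      NondegOn B (⊤ : Submodule F V)) (by rw [finrank_top, C.dim]; omega)
    exact ⟨r, h1, h2'⟩
  obtain ⟨f, -⟩ := exists_fr C hr0 hrr
  obtain ⟨cv, hcv0, hcv, hEv⟩ := get f.v f.v_ne_zero f.vv
  obtain ⟨cs, hcs0, hcs, hEs⟩ := get f.s f.s_ne_zero f.ss
  have hσv : σ cv = -cv := eq_neg_of_add_eq_zero_right hcv
  have hσs : σ cs = -cs := eq_neg_of_add_eq_zero_right hcs
  obtain ⟨ω, hω⟩ := h.conj.exists_norm_eq (a := γ * cv / cs)
    (by rw [map_div₀, map_mul, hγσ, hσv, hσs, mul_neg, neg_div_neg_eq])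
  obtain ⟨z, hz⟩ := h.conj.exists_norm_eq (a := -(ω + σ ω)) (by rw [map_neg, map_add, h.conj.invol]; ring)
  set u := ω • f.v + z • f.w + f.s
  have hvu : B f.v u = 1 := by simp [u, f.vv, f.vw, f.vs]
  have hsu : B f.s u = ω := by simp [u, f.sv C, f.sw, f.ss]
  have huu : B u u = 0 := by
    simp [u, map_add, map_smulₛₗ, f.vv, f.vw, f.vs, f.wv C, f.ww, f.ws C, f.sv C, f.sw, f.ss]
    linear_combination hz
  have hu0 : u ≠ 0 := fun e => by simp [e] at hvu
  have hω0 : ω ≠ 0 := fun e => by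
    rw [e, zero_mul, eq_comm, div_eq_zero_iff, mul_eq_zero] at hω
    rcases hω with (h1 | h1) | h1
    · exact Units.ne_zero _ h1
    · exact hcv0 h1
    · exact hcs0 h1
  obtain ⟨cu, hcu0, hcu, hEu⟩ := get u hu0 huu
  have hσu : σ cu = -cu := eq_neg_of_add_eq_zero_right hcu
  have b1 := bad_pair C H hq hbig hH h2 f.vv huu (by rw [hvu]; exact one_ne_zero) hcv0 hcu0 hcv hcu hEv hEu
  have b2 := bad_pair C H hq hbig hH h2 f.ss huu (by rw [hsu]; exact hω0) hcs0 hcu0 hcs hcu hEs hEu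
  rw [hvu, map_one, mul_one, mul_one] at b1
  rw [hsu] at b2
  have e1 := bad_exponent C (mul_ne_zero hcv0 hcu0) (by rw [map_mul, hσv, hσu, neg_mul_neg]) b1
  have e2 := bad_exponent C (mul_ne_zero (mul_ne_zero hcs0 hcu0) (mul_ne_zero hω0 (sigma_ne_zero C hω0)))
    (by rw [map_mul, map_mul, hσs, hσu, h.conj.norm_fixed, neg_mul_neg]) b2
  have hrel : cs * cu * (ω * σ ω) = γ * (cv * cu) := by rw [hω]; field_simp
  rw [hrel] at e2
  have hkill : ∀ n, 0 < n → (cv * cu) ^ n = 1 → (γ * (cv * cu)) ^ n = 1 → q - 1 ≤ n := fun n hn h1 h2' => by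
    rw [mul_pow, h1, mul_one] at h2'
    exact Nat.le_of_dvd hn (hord ▸ orderOf_dvd_of_pow_eq_one h2')
  by_cases h9 : q = 9
  · have four : ∀ l : F, ((q = 9 ∧ l ^ 4 = 1) ∨ ∃ a : ℕ, 0 < a ∧ (a + 1) * (a + 1) ≤ q ∧ l ^ a = 1) → l ^ 4 = 1 := by
      rintro l (⟨-, h4⟩ | ⟨a, ha, haq, hla⟩)
      · exact h4
      · obtain rfl | rfl : a = 1 ∨ a = 2 := by
          have : a + 1 ≤ 3 := by nlinarith
          omega
        · simp at hla; rw [hla, one_pow]
        · rw [show 4 = 2 * 2 from rfl, pow_mul, hla, one_pow]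
    have := hkill 4 (by norm_num) (four _ e1) (four _ e2)
    clear e1 e2 b1 b2 four
    omega
  · obtain ⟨a, ha, haq, h1⟩ := e1.resolve_left (fun e => h9 e.1)
    obtain ⟨b, hb, hbq, h2'⟩ := e2.resolve_left (fun e => h9 e.1)
    have := hkill (a * b) (by positivity) (by rw [pow_mul, h1, one_pow]) (by rw [pow_mul', h2', one_pow])
    have hab : (a + 1) * (b + 1) ≤ q := by nlinarith
    have : a * b + 1 < (a + 1) * (b + 1) := by nlinarith
    clear e1 e2 b1 b2
    omega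

end CfsgLib.KnownA.MinIndexU3
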